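import Groth.Agent.Pi1.K155.Sep
import Groth.Agent.Pi1C.HomLocal
import Groth.Agent.FlatA.FiniteExtend
import Groth.Agent.Pi1C.FormGeo

/-!
# Separating decompositions of `V(f)` in finite étale covers of `U' ⊆ Spec A`
-/

set_option autoImplicit false
universe u

open AlgebraicGeometry CategoryTheory CategoryTheory.Limits TensorProduct IsLocalRing

namespace K155.SepGeo

open K155.Sep Groth.Agent.Pi1C.HomLocal

/-- Finite étale covers of an open of `Spec R` extend to finite algebras. -/
theorem exists_alg {R : Type u} [CommRing R] {T E : Scheme.{u}} (a : E ⟶ Spec (CommRingCat.of R))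
    [IsOpenImmersion a] [CompactSpace E] (π : T ⟶ E) [IsFinite π] [LocallyOfFinitePresentation π] :
    ∃ (B : Type u) (_ : CommRing B) (_ : Algebra R B) (q : T ⟶ Spec (CommRingCat.of B)),
      Module.Finite R B ∧ IsPullback q π (spm R B) a := by
  obtain ⟨Y', π', q, h1, -, h3, -⟩ := Groth.Agent.FlatA.FiniteExtend.exists_extension_affine₀ a π
  obtain ⟨B, _, _, b, hb⟩ := exists_alg_of_isAffineHom (𝟙 (Spec (CommRingCat.of R))) π'
  have hb1 : IsIso b := MorphismProperty.of_isPullback (P := .isomorphisms _) hb.flip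
    (inferInstanceAs (IsIso (𝟙 _)))
  have hfin := finite_of_isPullback (𝟙 (Spec (CommRingCat.of R))) π' hb
  refine ⟨B, inferInstance, inferInstance, q ≫ inv b, hfin, ?_⟩
  have hb2 : IsPullback b (spm R B) π' (𝟙 _) := hb
  have h4 : IsPullback (inv b) π' (spm R B) (𝟙 (Spec (CommRingCat.of R))) := by
    refine IsPullback.of_horiz_isIso ⟨?_⟩
    rw [Category.comp_id, IsIso.inv_comp_eq]
    exact (hb2.w.trans (Category.comp_id _)).symm
  have h5 := h3.paste_horiz h4
  rwa [Category.comp_id] at h5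

/-- Flatness over `D(b)` from flatness over an open containing `D(b)`. -/
theorem flat_of_isPullback {R B : Type u} [CommRing R] [CommRing B] [Algebra R B] {T E : Scheme.{u}}
    (a : E ⟶ Spec (CommRingCat.of R)) [IsOpenImmersion a] (π : T ⟶ E) [Flat π]
    (q : T ⟶ Spec (CommRingCat.of B)) (h : IsPullback q π (spm R B) a) (b : R)
    (hb : ∀ p : PrimeSpectrum R, b ∉ p.asIdeal → p ∈ Set.range a) :
    Module.Flat (Localization.Away b) (Localization.Away b ⊗[R] B) := by
  have sq := Groth.Agent.Pi1C.FormGeo.isPullback_away b B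
  let j : Spec (CommRingCat.of (Localization.Away b)) ⟶ Spec (CommRingCat.of R) :=
    Spec.map (CommRingCat.ofHom (algebraMap R (Localization.Away b)))
  have hj : Set.range j ⊆ Set.range a := by
    intro p hp
    refine hb p ?_
    have h2 : p ∈ Set.range (PrimeSpectrum.comap (algebraMap R (Localization.Away b))) := hp
    rw [PrimeSpectrum.localization_away_comap_range (Localization.Away b) b] at h2
    exact h2
  let k : Spec (CommRingCat.of (Localization.Away b)) ⟶ E := IsOpenImmersion.lift a j hj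
  have hk : k ≫ a = j := IsOpenImmersion.lift_fac _ _ _
  have hw : Spec.map (CommRingCat.ofHom (Algebra.TensorProduct.includeRight (R := R)
      (A := Localization.Away b) (B := B)).toRingHom) ≫ spm R B =
      (Spec.map (CommRingCat.ofHom (algebraMap (Localization.Away b)
        (Localization.Away b ⊗[R] B))) ≫ k) ≫ a := by
    rw [Category.assoc, hk]
    exact sq.w
  let l : Spec (CommRingCat.of (Localization.Away b ⊗[R] B)) ⟶ T := h.lift _ _ hw
  have h3 : IsPullback l (Spec.map (CommRingCat.ofHom (algebraMap (Localization.Away b)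
      (Localization.Away b ⊗[R] B)))) π k := by
    refine IsPullback.of_right (h₁₂ := q) (h₂₂ := a) (v₁₃ := spm R B) ?_ (h.lift_snd _ _ _) h
    rw [h.lift_fst, hk]
    exact sq
  have h4 : Flat (Spec.map (CommRingCat.ofHom (algebraMap (Localization.Away b)
      (Localization.Away b ⊗[R] B)))) := MorphismProperty.of_isPullback (P := @Flat) h3 inferInstance
  rw [Flat.SpecMap_iff] at h4
  exact RingHom.flat_algebraMap_iff.1 h4

/-- **Separating decompositions in finite étale covers.** -/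
theorem exists_opens {A : Type u} [CommRing A] [IsNoetherianRing A] [IsLocalRing A] (f : A)
    {R' : Type u} [CommRing R'] [Algebra A R'] (hs : Function.Surjective (algebraMap A R'))
    (hker : RingHom.ker (algebraMap A R') ≤ nilradical A) (𝔟 : Ideal A)
    (U' : (Spec (CommRingCat.of A)).Opens)
    (hU' : ∀ p : PrimeSpectrum A, p ∈ U' ↔ ¬ 𝔟 ≤ p.asIdeal)
    (hU0 : ∀ p : PrimeSpectrum A, f ∈ p.asIdeal → ¬ maximalIdeal A ≤ p.asIdeal → p ∈ U')
    (hUm : ∀ p : PrimeSpectrum A, p ∈ U' → ¬ maximalIdeal A ≤ p.asIdeal)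
    (hSep : ∀ (B : Type u) [CommRing B] [Algebra R' B] [Algebra A B] [IsScalarTower A R' B]
      [Module.Finite R' B], (∀ b ∈ 𝔟, Module.Flat (Localization.Away (algebraMap A R' b))
        (Localization.Away (algebraMap A R' b) ⊗[R'] B)) → Sep A f B)
    {T : Scheme.{u}} (t : T ⟶ (U' : Scheme.{u})) [IsFinite t] [Etale t] (Z₀ Z₁ : Set T)
    (h0 : IsClosed Z₀) (h1 : IsClosed Z₁)
    (hc : ∀ x : T, f ∈ PrimeSpectrum.asIdeal (U'.ι (t x)) → (x ∈ Z₀ ∨ x ∈ Z₁))
    (hd : ∀ x : T, f ∈ PrimeSpectrum.asIdeal (U'.ι (t x)) → x ∈ Z₀ → x ∈ Z₁ → False) :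
    ∃ O₀ O₁ : Set T, IsOpen O₀ ∧ IsOpen O₁ ∧ Disjoint O₀ O₁ ∧
      ∀ x : T, f ∈ PrimeSpectrum.asIdeal (U'.ι (t x)) →
        ((x ∈ Z₀ → x ∈ O₀) ∧ (x ∈ Z₁ → x ∈ O₁)) := by
  have hR'N : IsNoetherianRing R' := isNoetherianRing_of_surjective A R' _ hs
  let ρ : Spec (CommRingCat.of R') ⟶ Spec (CommRingCat.of A) := spm A R'
  have hρc : IsClosedImmersion ρ := IsClosedImmersion.spec_of_surjective _ hs
  have hρs : Surjective ρ := by
    constructor
    intro p
    have h2 : p ∈ Set.range (PrimeSpectrum.comap (algebraMap A R')) := by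
      rw [range_comap_of_surjective _ _ hs]
      exact hker.trans (nilradical_le_prime (PrimeSpectrum.asIdeal p))
    exact h2
  let a := pullback.snd U'.ι ρ
  let e := pullback.fst U'.ι ρ
  have hNS : TopologicalSpace.NoetherianSpace ↥(pullback U'.ι ρ) :=
    a.isOpenEmbedding.isInducing.noetherianSpace
  let π := pullback.snd t e
  let c := pullback.fst t e
  obtain ⟨B, _, _, q, hfin, hsq⟩ := exists_alg a π
  have hq : IsOpenImmersion q := MorphismProperty.of_isPullback (P := @IsOpenImmersion) hsq.flip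
    inferInstance
  let _ : Algebra A B := ((algebraMap R' B).comp (algebraMap A R')).toAlgebra
  have htower : IsScalarTower A R' B := IsScalarTower.of_algebraMap_eq' rfl
  have hmap : algebraMap A B = (algebraMap R' B).comp (algebraMap A R') := rfl
  -- the image in `Spec A`
  have himg : ∀ y : ↥(pullback t e), PrimeSpectrum.comap (algebraMap A B) (q y) = U'.ι (t (c y)) := by
    intro y
    have e1 : q ≫ spm R' B ≫ ρ = c ≫ t ≫ U'.ι := by
      have e2 : c ≫ t = π ≫ e := pullback.condition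
      have e3 : q ≫ spm R' B = π ≫ a := hsq.w
      have e4 : e ≫ U'.ι = a ≫ ρ := pullback.condition
      rw [reassoc_of% e2, e4, reassoc_of% e3]
    have e5 := congrArg (fun φ : pullback t e ⟶ Spec (CommRingCat.of A) => φ y) e1
    have e6 : PrimeSpectrum.comap (algebraMap A B) (q y) =
        PrimeSpectrum.comap (algebraMap A R') (PrimeSpectrum.comap (algebraMap R' B) (q y)) := by
      rw [hmap, PrimeSpectrum.comap_comp_apply]
    rw [e6]
    simp only [Scheme.Hom.comp_apply] at e5
    exact e5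
  have hrange : ∀ p : PrimeSpectrum B, PrimeSpectrum.comap (algebraMap A B) p ∈ U' →
      p ∈ Set.range q := by
    intro p hp
    have h2 : ρ (spm R' B p) ∈ U' := by
      rw [hmap, PrimeSpectrum.comap_comp_apply] at hp
      exact hp
    obtain ⟨z, -, hz⟩ := Scheme.exists_preimage_of_isPullback (IsPullback.of_hasPullback U'.ι ρ)
      ⟨ρ (spm R' B p), h2⟩ (spm R' B p) rfl
    obtain ⟨y, hy, -⟩ := Scheme.exists_preimage_of_isPullback hsq p z hz.symm
    exact ⟨y, hy⟩
  have hfl : ∀ b ∈ 𝔟, Module.Flat (Localization.Away (algebraMap A R' b))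
      (Localization.Away (algebraMap A R' b) ⊗[R'] B) := by
    intro b hb
    refine flat_of_isPullback a π q hsq _ fun p hp => ?_
    have h2 : ρ p ∈ U' := by
      refine (hU' _).2 fun hcon => hp ?_
      exact hcon hb
    obtain ⟨z, -, hz⟩ := Scheme.exists_preimage_of_isPullback (IsPullback.of_hasPullback U'.ι ρ)
      ⟨ρ p, h2⟩ p rfl
    exact ⟨z, hz⟩
  have hclosed : ∀ Z : Set T, IsClosed Z → ∀ y, q y ∈ closure (q '' (c ⁻¹' Z)) → c y ∈ Z := by
    intro Z hZ y hy
    have h2 : y ∈ q ⁻¹' closure (q '' (c ⁻¹' Z)) := hy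
    rw [← q.isOpenEmbedding.isInducing.closure_eq_preimage_closure_image,
      (hZ.preimage c.continuous).closure_eq] at h2
    exact h2
  have hU0' : ∀ p : PrimeSpectrum B, algebraMap A B f ∈ p.asIdeal →
      ¬ (maximalIdeal A).map (algebraMap A B) ≤ p.asIdeal →
      PrimeSpectrum.comap (algebraMap A B) p ∈ U' := by
    intro p hp hmp
    refine hU0 _ hp fun hcon => hmp ?_
    rw [Ideal.map_le_iff_le_comap]
    exact hcon
  have hf' : ∀ y, algebraMap A B f ∈ PrimeSpectrum.asIdeal (q y) →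
      f ∈ PrimeSpectrum.asIdeal (U'.ι (t (c y))) := by
    intro y hy
    rw [← himg y]
    exact hy
  obtain ⟨O₀, O₁, hO₀, hO₁, hdis, hO⟩ := hSep B hfl (closure (q '' (c ⁻¹' Z₀)))
    (closure (q '' (c ⁻¹' Z₁))) isClosed_closure isClosed_closure (by
      intro p hp hmp
      obtain ⟨y, rfl⟩ := hrange p (hU0' p hp hmp)
      rcases hc (c y) (hf' y hp) with h | h
      · exact Or.inl (subset_closure ⟨y, h, rfl⟩)
      · exact Or.inr (subset_closure ⟨y, h, rfl⟩)) (by
      intro p hp hmp hp0 hp1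
      obtain ⟨y, rfl⟩ := hrange p (hU0' p hp hmp)
      exact hd (c y) (hf' y hp) (hclosed Z₀ h0 y hp0) (hclosed Z₁ h1 y hp1))
  have hce : Topology.IsClosedEmbedding c := c.isClosedEmbedding
  have hcs : Function.Surjective c := c.surjective
  have hmem : ∀ (O : Set (PrimeSpectrum B)) (y : ↥(pullback t e)),
      c y ∈ (c '' (q ⁻¹' O)ᶜ)ᶜ ↔ q y ∈ O := by
    intro O y
    rw [Set.mem_compl_iff, not_iff_comm]
    constructor
    · intro h
      exact ⟨y, h, rfl⟩
    · rintro ⟨z, hz, hzy⟩
      rw [← hce.injective hzy]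
      exact hz
  have hopen : ∀ (O : Set (PrimeSpectrum B)), IsOpen O → IsOpen (c '' (q ⁻¹' O)ᶜ)ᶜ := by
    intro O hO
    refine IsClosed.isOpen_compl (self := hce.isClosedMap _ ?_)
    exact (hO.preimage q.continuous).isClosed_compl
  refine ⟨(c '' (q ⁻¹' O₀)ᶜ)ᶜ, (c '' (q ⁻¹' O₁)ᶜ)ᶜ, hopen _ hO₀, hopen _ hO₁, ?_, ?_⟩
  · rw [Set.disjoint_left]
    intro x hx0 hx1
    obtain ⟨y, rfl⟩ := hcs x
    exact Set.disjoint_left.1 hdis ((hmem _ _).1 hx0) ((hmem _ _).1 hx1)
  · intro x hx
    obtain ⟨y, rfl⟩ := hcs x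
    have hfy : algebraMap A B f ∈ PrimeSpectrum.asIdeal (q y) := by
      rw [← himg y] at hx
      exact hx
    have hmy : ¬ (maximalIdeal A).map (algebraMap A B) ≤ PrimeSpectrum.asIdeal (q y) := by
      intro hcon
      rw [Ideal.map_le_iff_le_comap] at hcon
      refine hUm (U'.ι (t (c y))) (t (c y)).2 ?_
      rw [← himg y]
      exact hcon
    have h2 := hO (q y) hfy hmy
    exact ⟨fun h => (hmem _ _).2 (h2.1 (subset_closure ⟨y, h, rfl⟩)),
      fun h => (hmem _ _).2 (h2.2 (subset_closure ⟨y, h, rfl⟩))⟩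

end K155.SepGeo
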