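import Groth.Agent.Pi1.K155.NbhdFF
import Groth.Agent.Pi1.K155.SepGeo

/-!
# The decomposition property for the punctured spectrum

`Sep A f B` for the finite algebras `B` which are flat over an open `D(𝔟) ⊇ V(f) ∖ {m}` gives
`Decomp` for `U₀ ⟶ U`, hence full faithfulness near `U₀`.
-/

set_option autoImplicit false
universe u

open AlgebraicGeometry CategoryTheory CategoryTheory.Limits TensorProduct IsLocalRing

namespace K155.DecompSpec

open K155.Sep K155.NbhdFF

variable {A : Type u} [CommRing A] [IsLocalRing A] (f : A)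

theorem mem_puncturedSpec (p : PrimeSpectrum A) :
    p ∈ FEt.puncturedSpec A ↔ ¬ maximalIdeal A ≤ p.asIdeal := by
  change ¬ (p = closedPoint A) ↔ _
  rw [not_iff_not]
  constructor
  · rintro rfl
    exact le_rfl
  · intro h
    exact PrimeSpectrum.ext (le_antisymm (le_maximalIdeal p.isPrime.ne_top) h)

/-- `Spec A/f ⟶ Spec A` -/
noncomputable abbrev ρ : Spec (CommRingCat.of (A ⧸ Ideal.span {f})) ⟶ Spec (CommRingCat.of A) :=
  Spec.map (CommRingCat.ofHom (Ideal.Quotient.mk (Ideal.span {f})))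

theorem mem_range (p : PrimeSpectrum A) :
    p ∈ Set.range (pullback.fst (FEt.puncturedSpec A).ι (ρ f) ≫ (FEt.puncturedSpec A).ι) ↔
      f ∈ p.asIdeal ∧ ¬ maximalIdeal A ≤ p.asIdeal := by
  constructor
  · rintro ⟨x, hx⟩
    constructor
    · rw [pullback.condition] at hx
      rw [← hx]
      have h1 : (Ideal.Quotient.mk (Ideal.span {f})) f ∈
          PrimeSpectrum.asIdeal (pullback.snd (FEt.puncturedSpec A).ι (ρ f) x) := by
        rw [Ideal.Quotient.eq_zero_iff_mem.2 (Ideal.mem_span_singleton_self f)]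
        exact Ideal.zero_mem _
      exact h1
    · rw [← mem_puncturedSpec, ← hx]
      exact (pullback.fst (FEt.puncturedSpec A).ι (ρ f) x).2
  · rintro ⟨h1, h2⟩
    have h3 : p ∈ FEt.puncturedSpec A := (mem_puncturedSpec p).2 h2
    obtain ⟨q, hq⟩ : ∃ q, ρ f q = p := by
      have : p ∈ Set.range (PrimeSpectrum.comap (Ideal.Quotient.mk (Ideal.span {f}))) := by
        rw [range_comap_of_surjective _ _ Ideal.Quotient.mk_surjective, Ideal.mk_ker]
        change Ideal.span {f} ≤ p.asIdeal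
        rwa [Ideal.span_singleton_le_iff_mem]
      exact this
    obtain ⟨x, hx, -⟩ := Scheme.exists_preimage_of_isPullback
      (IsPullback.of_hasPullback (FEt.puncturedSpec A).ι (ρ f)) ⟨p, h3⟩ q hq.symm
    exact ⟨x, by rw [Scheme.Hom.comp_apply, hx]; rfl⟩

instance : IsClosedImmersion (ρ f) :=
  IsClosedImmersion.spec_of_surjective _ Ideal.Quotient.mk_surjective

instance : IsClosedImmersion (pullback.fst (FEt.puncturedSpec A).ι (ρ f)) := inferInstance

variable [IsNoetherianRing A]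

theorem decomp_of_sep {R' : Type u} [CommRing R'] [Algebra A R']
    (hs : Function.Surjective (algebraMap A R'))
    (hker : RingHom.ker (algebraMap A R') ≤ nilradical A)
    (hSep : ∀ (𝔟 : Ideal A) (_ : maximalIdeal A ≤ (𝔟 ⊔ Ideal.span {f}).radical)
      (B : Type u) [CommRing B] [Algebra R' B] [Algebra A B] [IsScalarTower A R' B]
      [Module.Finite R' B], (∀ b ∈ 𝔟, Module.Flat (Localization.Away (algebraMap A R' b))
        (Localization.Away (algebraMap A R' b) ⊗[R'] B)) → Sep A f B) :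
    Decomp (FEt.puncturedSpec A) (pullback.fst (FEt.puncturedSpec A).ι (ρ f)) := by
  intro U' hU' hrange T t _ _ Z₀ Z₁ h0 h1 hc hd
  let V : Set (PrimeSpectrum A) := U'.1
  have hV : IsOpen V := U'.isOpen
  let 𝔟 : Ideal A := PrimeSpectrum.vanishingIdeal Vᶜ
  have h𝔟 : ∀ p : PrimeSpectrum A, p ∈ U' ↔ ¬ 𝔟 ≤ p.asIdeal := by
    intro p
    have h2 : p ∈ PrimeSpectrum.zeroLocus (𝔟 : Set A) ↔ p ∈ Vᶜ := by
      rw [PrimeSpectrum.zeroLocus_vanishingIdeal_eq_closure, hV.isClosed_compl.closure_eq]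
    rw [PrimeSpectrum.mem_zeroLocus, Set.mem_compl_iff] at h2
    have h3 := h2.not
    rw [not_not] at h3
    exact h3.symm
  have hU0 : ∀ p : PrimeSpectrum A, f ∈ p.asIdeal → ¬ maximalIdeal A ≤ p.asIdeal → p ∈ U' :=
    fun p h2 h3 => hrange ((mem_range f p).2 ⟨h2, h3⟩)
  have hUm : ∀ p : PrimeSpectrum A, p ∈ U' → ¬ maximalIdeal A ≤ p.asIdeal :=
    fun p hp => (mem_puncturedSpec p).1 (hU' hp)
  have h𝔟m : maximalIdeal A ≤ (𝔟 ⊔ Ideal.span {f}).radical := by
    rw [Ideal.radical_eq_sInf]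
    refine le_sInf ?_
    rintro q ⟨hq, hqp⟩
    by_contra hcon
    have h2 : (⟨q, hqp⟩ : PrimeSpectrum A) ∈ U' := hU0 ⟨q, hqp⟩
      (hq (Ideal.mem_sup_right (Ideal.mem_span_singleton_self f))) hcon
    exact (h𝔟 _).1 h2 (le_sup_left.trans hq)
  have hrx : ∀ x : T, f ∈ PrimeSpectrum.asIdeal (U'.ι (t x)) →
      U'.ι (t x) ∈ Set.range (pullback.fst (FEt.puncturedSpec A).ι (ρ f) ≫
        (FEt.puncturedSpec A).ι) := fun x hx =>
    (mem_range f _).2 ⟨hx, hUm _ (t x).2⟩
  obtain ⟨O₀, O₁, hO₀, hO₁, hdis, hO⟩ := SepGeo.exists_opens f hs hker 𝔟 U' h𝔟 hU0 hUm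
    (hSep 𝔟 h𝔟m) t Z₀ Z₁ h0 h1 (fun x hx => hc x (hrx x hx)) (fun x hx => hd x (hrx x hx))
  exact ⟨O₀, O₁, hO₀, hO₁, hdis, fun x hx => hO x ((mem_range f _).1 hx).1⟩

/-- The case of a finite `H¹_m(A/f)`. -/
theorem decomp_of_H1 (hf : f ∈ maximalIdeal A)
    [IsAdicComplete (Ideal.span {f}) A] (hnz : f ∈ nonZeroDivisors A)
    (h1 : Module.Finite A (LocCoh.H (maximalIdeal A) 1 (A ⧸ Ideal.span {f}))) :
    Decomp (FEt.puncturedSpec A) (pullback.fst (FEt.puncturedSpec A).ι (ρ f)) := by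
  refine decomp_of_sep f (R' := A) Function.surjective_id ?_ ?_
  · intro x hx
    have : x = 0 := hx
    rw [this]
    exact Ideal.zero_mem _
  · intro 𝔟 h𝔟 B _ i1 i2 hst hfin hfl
    have h2 : i1 = i2 := by
      apply Algebra.algebra_ext
      intro r
      have := @IsScalarTower.algebraMap_apply A A B _ _ _ _ i1 i2 hst r
      exact this.symm
    subst h2
    exact sep_of_H1 hf hnz h1 𝔟 h𝔟 hfl

end K155.DecompSpec
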