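import Groth.Prelude.Def_FEt
import Groth.Agent.Pi1A.ClopenCrit
import Mathlib.RingTheory.Ideal.KrullsHeightTheorem
import Mathlib.RingTheory.KrullDimension.Basic
import Mathlib.RingTheory.Spectrum.Prime.Noetherian

/-!
# Clopens of finite étale covers of `U' ⊆ Spec A` which miss `V(f)`

If every minimal prime `p ∈ U'` of `A` with `f ∉ p` has `dim A/p ≥ 2` then a clopen of a finite étale
cover of `U'` missing `V(f)` is empty.
-/

set_option autoImplicit false
universe u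

open AlgebraicGeometry CategoryTheory CategoryTheory.Limits

namespace K155.DimTwo

variable {A : Type u} [CommRing A] [IsNoetherianRing A] [IsLocalRing A]

/-- If `V(p) ∩ V(f) ⊆ {m}` then `dim A / p ≤ 1`. -/
theorem dim_le_one {f : A} (hf : f ∈ IsLocalRing.maximalIdeal A) (p : Ideal A) [hp : p.IsPrime]
    (h : ∀ q : Ideal A, q.IsPrime → p ≤ q → f ∈ q → q = IsLocalRing.maximalIdeal A) :
    ringKrullDim (A ⧸ p) ≤ 1 := by
  have hpm : p ≤ IsLocalRing.maximalIdeal A := IsLocalRing.le_maximalIdeal hp.ne_top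
  have : Nontrivial (A ⧸ p) := Ideal.Quotient.nontrivial_iff.2 hp.ne_top
  have hloc : IsLocalRing (A ⧸ p) :=
    IsLocalRing.of_surjective' (Ideal.Quotient.mk p) Ideal.Quotient.mk_surjective
  rw [← IsLocalRing.maximalIdeal_height_eq_ringKrullDim]
  have h1 : (IsLocalRing.maximalIdeal (A ⧸ p)).height ≤ 1 := by
    refine Ideal.height_le_one_of_isPrincipal_of_mem_minimalPrimes
      (Ideal.span {Ideal.Quotient.mk p f}) _ ?_
    refine ⟨⟨(IsLocalRing.maximalIdeal.isMaximal (A ⧸ p)).isPrime, ?_⟩, ?_⟩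
    · rw [Ideal.span_singleton_le_iff_mem, IsLocalRing.mem_maximalIdeal, mem_nonunits_iff]
      intro hu
      have hlh : IsLocalHom (Ideal.Quotient.mk p) := Ideal.Quotient.mk_surjective.isLocalHom
      exact (IsLocalRing.mem_maximalIdeal _).1 hf (isUnit_of_map_unit (Ideal.Quotient.mk p) f hu)
    · rintro q ⟨hq, hfq⟩ -
      have h2 := h (q.comap (Ideal.Quotient.mk p)) (Ideal.IsPrime.comap _) (by
        intro x hx
        rw [Ideal.mem_comap, Ideal.Quotient.eq_zero_iff_mem.2 hx]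
        exact q.zero_mem) (by
        rw [Ideal.mem_comap]
        exact hfq (Ideal.mem_span_singleton_self _))
      intro y hy
      obtain ⟨x, rfl⟩ := Ideal.Quotient.mk_surjective y
      rw [← Ideal.mem_comap, h2, IsLocalRing.mem_maximalIdeal, mem_nonunits_iff]
      intro hu
      exact (IsLocalRing.mem_maximalIdeal _).1 hy (hu.map _)
  exact_mod_cast h1

/-- The clopen statement. -/
theorem eq_empty_of_isClopen (f : A) (hf : f ∈ IsLocalRing.maximalIdeal A)
    (U' : (Spec (CommRingCat.of A)).Opens)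
    (hU0 : ∀ y : PrimeSpectrum A, y.asIdeal ≠ IsLocalRing.maximalIdeal A → f ∈ y.asIdeal → y ∈ U')
    (hdim : ∀ p : PrimeSpectrum A, p.asIdeal ∈ minimalPrimes A → p ∈ U' → f ∉ p.asIdeal →
      (2 : WithBot ℕ∞) ≤ ringKrullDim (A ⧸ p.asIdeal))
    {T : Scheme.{u}} (t : T ⟶ (U' : Scheme.{u})) [IsFinite t] [Etale t] (C : Set T) (hC : IsClopen C)
    (hCf : ∀ x ∈ C, f ∉ PrimeSpectrum.asIdeal ((t ≫ U'.ι) x)) : C = ∅ := by
  by_contra hne
  obtain ⟨x₀, hx₀⟩ := Set.nonempty_iff_ne_empty.2 hne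
  -- the image is clopen in `U'`
  have hclosed : IsClosed (t '' C) := t.isClosedMap _ hC.1
  have hopen : IsOpen (t '' C) := t.isOpenMap _ hC.2
  -- a minimal prime in the image
  let K : Set (PrimeSpectrum A) := U'.ι '' (t '' C)
  have hKo : IsOpen K := U'.ι.isOpenEmbedding.isOpenMap _ hopen
  have hKf : ∀ y ∈ K, f ∉ y.asIdeal := by
    rintro _ ⟨_, ⟨x, hx, rfl⟩, rfl⟩
    have := hCf x hx
    rwa [Scheme.Hom.comp_apply] at this
  let y₀ : PrimeSpectrum A := U'.ι (t x₀)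
  have hy₀ : y₀ ∈ K := ⟨_, ⟨x₀, hx₀, rfl⟩, rfl⟩
  obtain ⟨p, hp, hpy⟩ := Ideal.exists_minimalPrimes_le (bot_le (a := y₀.asIdeal))
  let P : PrimeSpectrum A := ⟨p, hp.1.1⟩
  have hPy : P ≤ y₀ := hpy
  have hPK : P ∈ K := by
    have h1 : P ⤳ y₀ := (PrimeSpectrum.le_iff_specializes _ _).1 hPy
    exact h1.mem_open hKo hy₀
  have hPU : P ∈ U' := by
    obtain ⟨z, _, hz⟩ := hPK
    rw [← hz]
    exact z.2
  have h2 := hdim P hp hPU (hKf P hPK)
  have h3 : ringKrullDim (A ⧸ P.asIdeal) ≤ 1 := by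
    have hPp : P.asIdeal.IsPrime := P.isPrime
    refine dim_le_one hf P.asIdeal ?_
    intro q hq hPq hfq
    by_contra hqm
    -- `q ∈ U'` lies over `V(f)`, and is in the closure of `P`
    let Q : PrimeSpectrum A := ⟨q, hq⟩
    have hQU : Q ∈ U' := hU0 Q hqm hfq
    obtain ⟨z, hz, hzP⟩ := hPK
    let w : U' := ⟨Q, hQU⟩
    have h4 : z ⤳ w := by
      rw [← U'.ι.isOpenEmbedding.isInducing.specializes_iff]
      change U'.ι z ⤳ U'.ι w
      rw [hzP]
      exact (PrimeSpectrum.le_iff_specializes _ _).1 hPq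
    have h5 : w ∈ t '' C := h4.mem_closed hclosed hz
    exact hKf Q ⟨w, h5, rfl⟩ hfq
  have h4 : (2 : WithBot ℕ∞) ≤ 1 := h2.trans h3
  exact absurd h4 (by decide)

end K155.DimTwo
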