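import Mathlib.LinearAlgebra.Matrix.Charpoly.LinearMap
import Mathlib.RingTheory.Artinian.Module
import Mathlib.RingTheory.AdicCompletion.Basic
import Groth.Agent.Ega4B.GFTCoreAux

/-!
# Artinian modules over an `f`-adically complete ring with finite `f`-torsion

Let `A` be Noetherian and `f`-adically complete, `H` an Artinian `A`-module, all of whose elements are
killed by a power of `f`, such that `H[f]` is finitely generated and killed by `J ^ k`. Then there are
`n` and an ideal `c` with `f ^ n c H = 0` and `J ≤ √(c + (f))`.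
-/

set_option autoImplicit false
universe u

open Polynomial

namespace K155.DivAnn

variable {A : Type u} [CommRing A] [IsNoetherianRing A] (f : A)

section Div

variable (H : Type u) [AddCommGroup H] [Module A H]

/-- The divisible case: `A`-linear endomorphisms of a divisible `f`-torsion module whose kernel of `f`
is finite form a finite module. -/
theorem finite_end [IsAdicComplete (Ideal.span {f}) A]
    (htors : ∀ x : H, ∃ n : ℕ, f ^ n • x = 0) (hdiv : ∀ x : H, ∃ y : H, f • y = x)
    (hfin : (LinearMap.ker (LinearMap.lsmul A H f)).FG) :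
    Module.Finite A (Module.End A H) ∧
      ∀ φ : Module.End A H, (∀ x : H, f • x = 0 → φ x = 0) →
        φ ∈ (Ideal.span {f} • ⊤ : Submodule A (Module.End A H)) := by
  have key : ∀ φ : Module.End A H, (∀ x : H, f • x = 0 → φ x = 0) →
        ∃ ψ : Module.End A H, f • ψ = φ := by
    intro φ hφ
    choose s hs using hdiv
    have hwd : ∀ x y : H, f • x = y → φ x = φ (s y) := by
      intro x y hxy
      rw [← sub_eq_zero, ← map_sub]
      apply hφ
      rw [smul_sub, hs, hxy, sub_self]
    refine ⟨{ toFun := fun x => φ (s x), map_add' := ?_, map_smul' := ?_ }, ?_⟩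
    · intro x y
      rw [← map_add]
      symm
      apply hwd
      rw [smul_add, hs, hs]
    · intro a x
      rw [RingHom.id_apply, ← map_smul]
      symm
      apply hwd
      rw [smul_comm, hs]
    · ext x
      change f • φ (s x) = φ x
      rw [← map_smul, hs]
  have key2 : ∀ φ : Module.End A H, (∀ x : H, f • x = 0 → φ x = 0) →
        φ ∈ (Ideal.span {f} • ⊤ : Submodule A (Module.End A H)) := by
    intro φ hφ
    obtain ⟨ψ, rfl⟩ := key φ hφ
    exact Submodule.smul_mem_smul (Ideal.mem_span_singleton_self f) Submodule.mem_top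
  refine ⟨?_, key2⟩
  have hH : IsHausdorff (Ideal.span {f}) (Module.End A H) := by
    constructor
    intro φ hφ
    ext x
    obtain ⟨n, hn⟩ := htors x
    have h1 := hφ n
    rw [SModEq.zero, Ideal.span_singleton_pow] at h1
    have h2 : ∀ ψ ∈ (Ideal.span {f ^ n} • ⊤ : Submodule A (Module.End A H)), ψ x = 0 := by
      intro ψ hψ
      refine Submodule.smul_induction_on hψ ?_ ?_
      · intro a ha χ _
        obtain ⟨b, rfl⟩ := Ideal.mem_span_singleton'.1 ha
        rw [LinearMap.smul_apply, ← map_smul, mul_smul, hn, smul_zero, map_zero]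
      · intro χ χ' h h'
        rw [LinearMap.add_apply, h, h', add_zero]
    exact h2 φ h1
  -- the quotient is finite
  obtain ⟨t, ht⟩ := hfin
  have hN : IsNoetherian A (LinearMap.ker (LinearMap.lsmul A H f)) := by
    apply isNoetherian_of_fg_of_noetherian
    exact ⟨t, ht⟩
  have hmem : ∀ (φ : Module.End A H) (x : H), x ∈ LinearMap.ker (LinearMap.lsmul A H f) →
      φ x ∈ LinearMap.ker (LinearMap.lsmul A H f) := by
    intro φ x hx
    rw [LinearMap.mem_ker, LinearMap.lsmul_apply] at hx ⊢
    rw [← map_smul, hx, map_zero]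
  have htm : ∀ x ∈ t, x ∈ LinearMap.ker (LinearMap.lsmul A H f) := fun x hx =>
    ht ▸ Submodule.subset_span hx
  let ev : Module.End A H →ₗ[A] (t → LinearMap.ker (LinearMap.lsmul A H f)) :=
    { toFun := fun φ x => ⟨φ x, hmem φ x (htm x x.2)⟩
      map_add' := fun φ ψ => by ext x; rfl
      map_smul' := fun a φ => by ext x; rfl }
  have hker : LinearMap.ker ev ≤ (Ideal.span {f} • ⊤ : Submodule A (Module.End A H)) := by
    intro φ hφ
    apply key2
    intro x hx
    have hx' : x ∈ LinearMap.ker (LinearMap.lsmul A H f) := by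
      rw [LinearMap.mem_ker, LinearMap.lsmul_apply, hx]
    rw [← ht] at hx'
    have h3 : Submodule.span A (t : Set H) ≤ LinearMap.ker φ := by
      rw [Submodule.span_le]
      intro y hy
      have := congrFun (LinearMap.mem_ker.1 hφ) ⟨y, hy⟩
      exact congrArg Subtype.val this
    exact h3 hx'
  have hfin' : Module.Finite A (Module.End A H ⧸ LinearMap.ker ev) :=
    Module.Finite.equiv (ev.quotKerEquivRange).symm
  have hfin'' : Module.Finite A (Module.End A H ⧸ (Ideal.span {f} • ⊤ : Submodule A (Module.End A H))) :=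
    Module.Finite.of_surjective (Submodule.factor hker) (Submodule.factor_surjective hker)
  exact Groth.Agent.Ega4B.GFTCoreAux.finite_of_quotient (Ideal.span {f})

theorem exists_ann_of_divisible [IsAdicComplete (Ideal.span {f}) A] (J : Ideal A)
    (htors : ∀ x : H, ∃ n : ℕ, f ^ n • x = 0) (hdiv : ∀ x : H, ∃ y : H, f • y = x)
    (hfin : (LinearMap.ker (LinearMap.lsmul A H f)).FG) (k : ℕ)
    (hk : ∀ a ∈ J ^ k, ∀ x : H, f • x = 0 → a • x = 0) :
    J ≤ (Module.annihilator A H ⊔ Ideal.span {f}).radical := by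
  obtain ⟨h1, h2⟩ := finite_end f H htors hdiv hfin
  intro a ha
  have hak : a ^ k ∈ J ^ k := Ideal.pow_mem_pow ha k
  obtain ⟨p, hp1, hp2, hp3, hp4⟩ :=
    LinearMap.exists_monic_and_natDegree_eq_and_coeff_mem_pow_and_aeval_eq_zero A
      (algebraMap A (Module.End A (Module.End A H)) (a ^ k)) (Ideal.span {f}) (by
        rintro _ ⟨φ, rfl⟩
        apply h2
        intro x hx
        change a ^ k • φ x = 0
        rw [← map_smul, hk _ hak x hx, map_zero])
  rw [Polynomial.aeval_algebraMap_apply] at hp4
  have h3 : p.eval (a ^ k) ∈ Module.annihilator A H := by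
    rw [Module.mem_annihilator]
    intro x
    have h4 := congrArg (fun ψ : Module.End A (Module.End A H) => (ψ (1 : Module.End A H)) x) hp4
    simpa using h4
  have h4 : p.eval (a ^ k) - (a ^ k) ^ p.natDegree ∈ Ideal.span {f} := by
    rw [Polynomial.eval_eq_sum_range, Finset.sum_range_succ, hp1.coeff_natDegree, one_mul,
      add_sub_cancel_right]
    refine Ideal.sum_mem _ fun i hi => Ideal.mul_mem_right _ _ ?_
    have hi' : i < p.natDegree := Finset.mem_range.1 hi
    exact Ideal.pow_le_self (by omega) (hp3 i)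
  refine ⟨k * p.natDegree, ?_⟩
  rw [pow_mul]
  have h5 : (a ^ k) ^ p.natDegree = p.eval (a ^ k) - (p.eval (a ^ k) - (a ^ k) ^ p.natDegree) := by
    ring
  rw [h5]
  exact Ideal.sub_mem _ (Ideal.mem_sup_left h3) (Ideal.mem_sup_right h4)

end Div

/-- The general case. -/
theorem exists_ann (H : Type u) [AddCommGroup H] [Module A H] [IsArtinian A H]
    [IsAdicComplete (Ideal.span {f}) A] (J : Ideal A)
    (htors : ∀ x : H, ∃ n : ℕ, f ^ n • x = 0)
    (hfin : (LinearMap.ker (LinearMap.lsmul A H f)).FG) (k : ℕ)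
    (hk : ∀ a ∈ J ^ k, ∀ x : H, f • x = 0 → a • x = 0) :
    ∃ (c : Ideal A) (n : ℕ), J ≤ (c ⊔ Ideal.span {f}).radical ∧
      ∀ a ∈ c, ∀ x : H, (f ^ n * a) • x = 0 := by
  -- the decreasing chain `f ^ n H`
  let D : ℕ → Submodule A H := fun n => LinearMap.range (LinearMap.lsmul A H (f ^ n))
  have hD : Antitone D := by
    apply antitone_nat_of_succ_le
    rintro n _ ⟨x, rfl⟩
    refine ⟨f • x, ?_⟩
    rw [LinearMap.lsmul_apply, LinearMap.lsmul_apply, smul_smul, pow_succ]
  obtain ⟨n, hn⟩ := IsArtinian.monotone_stabilizes (R := A) (M := H) ⟨fun i => OrderDual.toDual (D i), hD⟩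
  have hn1 : D n = D (n + 1) := hn (n + 1) (by omega)
  have hdiv : ∀ x : D n, ∃ y : D n, f • y = x := by
    rintro ⟨x, hx⟩
    rw [hn1] at hx
    obtain ⟨z, rfl⟩ := hx
    refine ⟨⟨f ^ n • z, ⟨z, rfl⟩⟩, Subtype.ext ?_⟩
    change f • f ^ n • z = f ^ (n + 1) • z
    rw [smul_smul, pow_succ']
  have hN : IsNoetherian A (LinearMap.ker (LinearMap.lsmul A H f)) :=
    isNoetherian_of_fg_of_noetherian _ hfin
  have hfin' : (LinearMap.ker (LinearMap.lsmul A (D n) f)).FG := by
    have hN' : IsNoetherian A (LinearMap.ker (LinearMap.lsmul A (D n) f)) := by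
      let g : LinearMap.ker (LinearMap.lsmul A (D n) f) →ₗ[A] LinearMap.ker (LinearMap.lsmul A H f) :=
        ((D n).subtype ∘ₗ (LinearMap.ker (LinearMap.lsmul A (D n) f)).subtype).codRestrict _ (by
          rintro ⟨x, hx⟩
          exact congrArg Subtype.val hx)
      refine isNoetherian_of_injective g ?_
      intro x y hxy
      apply Subtype.ext
      apply Subtype.ext
      exact congrArg (fun z : LinearMap.ker (LinearMap.lsmul A H f) => (z : H)) hxy
    have := (isNoetherian_def.1 hN') ⊤
    rwa [Submodule.fg_top] at this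
  have h1 := exists_ann_of_divisible f (D n) J
    (fun x => by
      obtain ⟨m, hm⟩ := htors x
      exact ⟨m, Subtype.ext hm⟩) hdiv hfin' k
    (fun a ha x hx => Subtype.ext (hk a ha x (congrArg Subtype.val hx)))
  refine ⟨Module.annihilator A (D n), n, h1, fun a ha x => ?_⟩
  have h2 := (Module.mem_annihilator.1 ha) (⟨f ^ n • x, ⟨x, rfl⟩⟩ : D n)
  have h3 := congrArg Subtype.val h2
  change a • f ^ n • x = 0 at h3
  rw [mul_comm, mul_smul]
  exact h3

end K155.DivAnn
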