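import Groth.Agent.Pi1.K155.DivAnn
import Groth.Agent.LoccohA.H1Fin
import Groth.Agent.S0817

/-!
# Annihilators of local cohomology from finiteness modulo `f`

Let `A` be a Noetherian local ring, `f`-adically complete, `f` a nonzerodivisor, and assume
`H^i_m(A/f)` finite for `1 ≤ i < s`. Then there are `n` and an ideal `c` with `√(c + (f)) = m` and
`f ^ n c H^i_m(A) = 0` for all `i ≤ s`.
-/

set_option autoImplicit false
universe u

open IsLocalRing

namespace K155.QuotAnn

open Groth.Agent.LoccohA.LES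

variable {A : Type u} [CommRing A]

theorem le_radical_mul_sup {J c c' F : Ideal A} (h : J ≤ (c ⊔ F).radical) (h' : J ≤ (c' ⊔ F).radical) :
    J ≤ (c * c' ⊔ F).radical := by
  intro a ha
  obtain ⟨k, hk⟩ := h ha
  obtain ⟨k', hk'⟩ := h' ha
  obtain ⟨x, hx, y, hy, hxy⟩ := Submodule.mem_sup.1 hk
  obtain ⟨x', hx', y', hy', hxy'⟩ := Submodule.mem_sup.1 hk'
  refine ⟨k + k', ?_⟩
  rw [pow_add, ← hxy, ← hxy']
  have : (x + y) * (x' + y') = x * x' + (y * (x' + y') + x * y') := by ring
  rw [this]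
  exact Ideal.add_mem _ (Ideal.mem_sup_left (Ideal.mul_mem_mul hx hx'))
    (Ideal.mem_sup_right (Ideal.add_mem _ (Ideal.mul_mem_right _ _ hy) (Ideal.mul_mem_left _ _ hy')))

theorem smul_aux1 {H : Type u} [AddCommGroup H] [Module A H] {f a : A} {n n' : ℕ} {x : H}
    (h : (f ^ n * a) • x = 0) : (f ^ (n + n') * a) • x = 0 := by
  have e : f ^ (n + n') * a = f ^ n' * (f ^ n * a) := by ring
  rw [e, mul_smul, h, smul_zero]

theorem smul_aux2 {H : Type u} [AddCommGroup H] [Module A H] {f a : A} {n n' : ℕ} {x : H}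
    (h : (f ^ n' * a) • x = 0) : (f ^ (n + n') * a) • x = 0 := by
  have e : f ^ (n + n') * a = f ^ n * (f ^ n' * a) := by ring
  rw [e, mul_smul, h, smul_zero]

variable [IsLocalRing A]

theorem exists_pow_kills (i : ℕ) (M : Type u) [AddCommGroup M] [Module A M]
    (h : Module.Finite A (LocCoh.H (maximalIdeal A) i M)) :
    ∃ k : ℕ, ∀ a ∈ maximalIdeal A ^ k, ∀ x : LocCoh.H (maximalIdeal A) i M, a • x = 0 := by
  obtain ⟨t, ht⟩ := h
  choose n hn using fun x => power_torsion (maximalIdeal A) i M x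
  refine ⟨t.sup n, fun a ha x => ?_⟩
  have hx : x ∈ Submodule.span A (t : Set (LocCoh.H (maximalIdeal A) i M)) := ht ▸ Submodule.mem_top
  induction hx using Submodule.span_induction with
  | mem y hy => exact hn y a (Ideal.pow_le_pow_right (Finset.le_sup hy) ha)
  | zero => rw [smul_zero]
  | add y z _ _ hy hz => rw [smul_add, hy, hz, add_zero]
  | smul b y _ hy => rw [smul_comm, hy, smul_zero]

variable [IsNoetherianRing A]

/-- The kernel of `f` on `H^i_m(A)`. -/
theorem ker_of_quotient (f : A) (hnz : f ∈ nonZeroDivisors A) (i : ℕ)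
    (h : Module.Finite A (LocCoh.H (maximalIdeal A) i (A ⧸ Ideal.span {f}))) :
    (LinearMap.ker (LinearMap.lsmul A (LocCoh.H (maximalIdeal A) (i + 1) A) f)).FG ∧
      ∃ k : ℕ, ∀ a ∈ maximalIdeal A ^ k, ∀ x : LocCoh.H (maximalIdeal A) (i + 1) A,
        f • x = 0 → a • x = 0 := by
  obtain ⟨δ, -, h2, -⟩ := exists_exact (maximalIdeal A) i (LinearMap.lsmul A A f)
    (Ideal.span {f}).mkQ (by
      intro x y hxy
      have hxy' : f * x = f * y := hxy
      have h0 : f * (x - y) = 0 := by rw [mul_sub, hxy', sub_self]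
      have := (mem_nonZeroDivisors_iff.1 hnz).1 _ h0
      exact sub_eq_zero.1 this) (by
      rw [LinearMap.exact_iff, Submodule.ker_mkQ]
      ext x
      constructor
      · intro hx
        obtain ⟨b, rfl⟩ := Ideal.mem_span_singleton'.1 hx
        exact ⟨b, by rw [LinearMap.lsmul_apply, smul_eq_mul, mul_comm]⟩
      · rintro ⟨b, rfl⟩
        exact Ideal.mem_span_singleton'.2 ⟨b, by rw [LinearMap.lsmul_apply, smul_eq_mul, mul_comm]⟩)
    (Ideal.span {f}).mkQ_surjective
  have h3 : ∀ x : LocCoh.H (maximalIdeal A) (i + 1) A,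
      hmap (maximalIdeal A) (i + 1) (LinearMap.lsmul A A f) x = f • x := by
    intro x
    have : LinearMap.lsmul A A f = f • LinearMap.id := by
      ext
      rfl
    rw [this, hmap_smul, hmap_id]
  have h4 : LinearMap.ker (LinearMap.lsmul A (LocCoh.H (maximalIdeal A) (i + 1) A) f) =
      LinearMap.range δ := by
    ext x
    rw [LinearMap.mem_ker, LinearMap.lsmul_apply, ← h3]
    exact h2 x
  constructor
  · rw [h4]
    have : Module.Finite A (LinearMap.range δ) := Module.Finite.range δ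
    exact Module.Finite.iff_fg.1 this
  · obtain ⟨k, hk⟩ := exists_pow_kills i _ h
    refine ⟨k, fun a ha x hx => ?_⟩
    have hx' : x ∈ LinearMap.range δ := by
      rw [← h4, LinearMap.mem_ker, LinearMap.lsmul_apply, hx]
    obtain ⟨y, rfl⟩ := hx'
    rw [← map_smul, hk a ha, map_zero]

theorem exists_ann_one (f : A) (hf : f ∈ maximalIdeal A) [IsAdicComplete (Ideal.span {f}) A]
    (hnz : f ∈ nonZeroDivisors A) (i : ℕ)
    (h : 1 ≤ i → Module.Finite A (LocCoh.H (maximalIdeal A) i (A ⧸ Ideal.span {f}))) :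
    ∃ (c : Ideal A) (n : ℕ), maximalIdeal A ≤ (c ⊔ Ideal.span {f}).radical ∧
      ∀ a ∈ c, ∀ x : LocCoh.H (maximalIdeal A) (i + 1) A, (f ^ n * a) • x = 0 := by
  have h' : Module.Finite A (LocCoh.H (maximalIdeal A) i (A ⧸ Ideal.span {f})) := by
    rcases Nat.eq_zero_or_pos i with rfl | hi
    · exact Groth.Agent.LoccohA.H1Fin.finite_H0 _ _
    · exact h hi
  obtain ⟨h1, k, hk⟩ := ker_of_quotient f hnz i h'
  have : IsArtinian A (LocCoh.H (maximalIdeal A) (i + 1) A) := Groth.Agent.S0817.result A A (i + 1)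
  exact DivAnn.exists_ann f _ (maximalIdeal A) (fun x => by
    obtain ⟨n, hn⟩ := power_torsion (maximalIdeal A) (i + 1) A x
    exact ⟨n, hn _ (Ideal.pow_mem_pow hf n)⟩) h1 k hk

theorem exists_annihilator (f : A) (hf : f ∈ maximalIdeal A) [IsAdicComplete (Ideal.span {f}) A]
    (hnz : f ∈ nonZeroDivisors A) (s : ℕ)
    (h : ∀ i, 1 ≤ i → i < s → Module.Finite A (LocCoh.H (maximalIdeal A) i (A ⧸ Ideal.span {f}))) :
    ∃ (c : Ideal A) (n : ℕ), c ≤ maximalIdeal A ∧ (c ⊔ Ideal.span {f}).radical = maximalIdeal A ∧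
      ∀ i ≤ s, ∀ a ∈ c, ∀ x : LocCoh.H (maximalIdeal A) i A, (f ^ n * a) • x = 0 := by
  have key : ∀ s : ℕ, (∀ i, 1 ≤ i → i < s →
      Module.Finite A (LocCoh.H (maximalIdeal A) i (A ⧸ Ideal.span {f}))) →
      ∃ (c : Ideal A) (n : ℕ), maximalIdeal A ≤ (c ⊔ Ideal.span {f}).radical ∧
      ∀ i ≤ s, ∀ a ∈ c, ∀ x : LocCoh.H (maximalIdeal A) i A, (f ^ n * a) • x = 0 := by
    intro s
    induction s with
    | zero =>
      intro _
      refine ⟨⊤, 0, ?_, ?_⟩
      · rw [top_sup_eq, Ideal.radical_top]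
        exact le_top
      · rintro i hi a - x
        obtain rfl : i = 0 := by omega
        have h1 : ∀ x : LocCoh.H (maximalIdeal A) 0 A, x = 0 := by
          intro x
          apply (equivGam (maximalIdeal A) A).injective
          rw [map_zero]
          apply Subtype.ext
          obtain ⟨n, hn⟩ := power_torsion (maximalIdeal A) 0 A x
          have h2 := hn (f ^ n) (Ideal.pow_mem_pow hf n)
          have h3 := congrArg Subtype.val (congrArg (equivGam (maximalIdeal A) A) h2)
          rw [map_smul, map_zero] at h3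
          have h4 : f ^ n * ((equivGam (maximalIdeal A) A x : A)) = 0 := h3
          exact (mem_nonZeroDivisors_iff.1 (pow_mem hnz n)).1 _ h4
        rw [h1 x, smul_zero]
    | succ s ih =>
      intro h
      obtain ⟨c, n, h1, h2⟩ := ih fun i hi hi' => h i hi (by omega)
      obtain ⟨c', n', h1', h2'⟩ := exists_ann_one f hf hnz s fun hs => h s hs (by omega)
      refine ⟨c * c', n + n', le_radical_mul_sup h1 h1', fun i hi a ha x => ?_⟩
      have ha1 : a ∈ c := (Ideal.mul_le_left : c * c' ≤ c) ha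
      have ha2 : a ∈ c' := (Ideal.mul_le_right : c * c' ≤ c') ha
      by_cases hi' : i ≤ s
      · have h3 := h2 i hi' a ha1 x
        exact smul_aux1 h3
      · obtain rfl : i = s + 1 := by omega
        have h3 := h2' a ha2 x
        exact smul_aux2 h3
  obtain ⟨c, n, h1, h2⟩ := key s h
  refine ⟨c * maximalIdeal A, n, Ideal.mul_le_right, ?_,
    fun i hi a ha => h2 i hi a ((Ideal.mul_le_left : c * maximalIdeal A ≤ c) ha)⟩
  apply le_antisymm
  · rw [(maximalIdeal.isMaximal A).isPrime.radical_le_iff, sup_le_iff,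
        Ideal.span_singleton_le_iff_mem]
    exact ⟨Ideal.mul_le_right, hf⟩
  · exact le_radical_mul_sup h1 (le_sup_left.trans Ideal.le_radical)

end K155.QuotAnn
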