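import Groth.Agent.Pi1.K155.FormIdem
import Groth.Agent.Pi1.K155.QuotAnn
import Groth.Agent.Pi1C.FormTr
import Mathlib.Algebra.Module.FinitePresentation
import Mathlib.RingTheory.Localization.BaseChange
import Mathlib.RingTheory.TensorProduct.IsBaseChangePi
import Mathlib.RingTheory.Flat.EquationalCriterion

/-!
# Annihilators of local cohomology of locally free algebras, and decompositions of `V(f)`

`R` Noetherian local, `f`-adically complete, `R'` a finite `R`-algebra, `f^n c` kills `H^i_m(R')` for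
`i = 1, 2`, `B` a finite `R'`-algebra which is flat on `D(b)` for `b ∈ 𝔟`, `f` a nonzerodivisor on `B`.
-/

set_option autoImplicit false
universe u

open TensorProduct IsLocalRing

namespace K155.FlatKill

open Groth.Agent.FormalA.CechSub Groth.Agent.FormalA.CechLC Groth.Agent.FormalA.LocSub
open Groth.Agent.FormalA.CompleteCx
open Groth.Agent.Pi1C.FormLim Groth.Agent.Pi1C.FormSys Groth.Agent.Pi1C.FormCech
  Groth.Agent.Pi1C.FormKill Groth.Agent.Pi1C.FormO Groth.Agent.Pi1C.FormR Groth.Agent.Pi1C.FormTr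

section Retract

variable {R : Type*} [CommRing R] [IsNoetherianRing R] (f : R) (M : Type*) [AddCommGroup M]
  [Module R M] [Module.Finite R M]

theorem exists_retract (hfl : Module.Flat (Localization.Away f) (Localization.Away f ⊗[R] M)) :
    ∃ (b n : ℕ) (α : M →ₗ[R] (Fin b → R)) (β : (Fin b → R) →ₗ[R] M),
      ∀ x, β (α x) = f ^ n • x := by
  let Rf := Localization.Away f
  let φ : M →ₗ[R] Rf ⊗[R] M := TensorProduct.mk R Rf M 1
  have hφ : IsLocalizedModule (Submonoid.powers f) φ :=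
    (isLocalizedModule_iff_isBaseChange (Submonoid.powers f) Rf φ).2
      (TensorProduct.isBaseChange R M Rf)
  have hRf : IsNoetherianRing Rf := IsLocalization.isNoetherianRing (Submonoid.powers f) _ inferInstance
  have hfin : Module.Finite Rf (Rf ⊗[R] M) := inferInstance
  have hfp : Module.FinitePresentation Rf (Rf ⊗[R] M) :=
    Module.finitePresentation_of_finite Rf (Rf ⊗[R] M)
  have hproj : Module.Projective Rf (Rf ⊗[R] M) := Module.Flat.projective_of_finitePresentation
  obtain ⟨b, β, hβ⟩ := Module.Finite.exists_fin' R M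
  let ι : (Fin b → R) →ₗ[R] (Fin b → Rf) :=
    LinearMap.pi fun i => (Algebra.linearMap R Rf).comp (LinearMap.proj i)
  have hι : IsLocalizedModule (Submonoid.powers f) ι := inferInstance
  let βf : (Fin b → Rf) →ₗ[Rf] Rf ⊗[R] M :=
    IsLocalizedModule.mapExtendScalars (Submonoid.powers f) ι φ Rf β
  have hβf : Function.Surjective βf :=
    IsLocalizedModule.map_surjective (Submonoid.powers f) ι φ β hβ
  obtain ⟨s, hs⟩ := Module.projective_lifting_property βf LinearMap.id hβf
  have : Module.FinitePresentation R M := Module.finitePresentation_of_finite R M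
  obtain ⟨α, ⟨_, n, rfl⟩, hα⟩ :=
    Module.FinitePresentation.exists_lift_of_isLocalizedModule (Submonoid.powers f) ι
      ((s.restrictScalars R).comp φ)
  have key : φ.comp (β.comp α) = φ.comp (f ^ n • LinearMap.id) := by
    ext x
    have h1 : φ (β (α x)) = βf (ι (α x)) :=
      (IsLocalizedModule.map_apply (Submonoid.powers f) ι φ β (α x)).symm
    have h2 : ι (α x) = f ^ n • s (φ x) := congr($hα x)
    have h3 : βf (s (φ x)) = φ x := congr($hs (φ x))
    change φ (β (α x)) = φ (f ^ n • x)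
    rw [h1, h2, ← algebraMap_smul Rf (f ^ n) (s (φ x)), map_smul, h3, algebraMap_smul, map_smul]
  obtain ⟨⟨_, k, rfl⟩, hk⟩ := Module.Finite.exists_smul_of_comp_eq_of_isLocalizedModule
    (Submonoid.powers f) φ _ _ key
  refine ⟨b, k + n, α, f ^ k • β, fun x => ?_⟩
  rw [pow_add, mul_smul]
  exact congr($hk x)

end Retract

section Kills

variable {R : Type*} [CommRing R] {ι : Type*} {g : ι → R}

theorem kills0_add {N : Type*} [AddCommGroup N] [Module R N] {a b : R} (ha : Kills0 g a N)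
    (hb : Kills0 g b N) : Kills0 g (a + b) N := by
  intro x hx
  obtain ⟨y, hy⟩ := ha x hx
  obtain ⟨z, hz⟩ := hb x hx
  exact ⟨y + z, by rw [map_add, hy, hz, add_smul]⟩

theorem kills0_mul {N : Type*} [AddCommGroup N] [Module R N] {a : R} (b : R)
    (ha : Kills0 g a N) : Kills0 g (b * a) N := by
  intro x hx
  obtain ⟨y, hy⟩ := ha x hx
  exact ⟨b • y, by rw [map_smul, hy, mul_smul]⟩

theorem kills0_zero {N : Type*} [AddCommGroup N] [Module R N] : Kills0 g 0 N :=
  fun x _ => ⟨0, by rw [map_zero, zero_smul]⟩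

theorem kills1_add {N : Type*} [AddCommGroup N] [Module R N] {a b : R} (ha : Kills1 g a N)
    (hb : Kills1 g b N) : Kills1 g (a + b) N := by
  intro x hx
  obtain ⟨y, hy⟩ := ha x hx
  obtain ⟨z, hz⟩ := hb x hx
  exact ⟨y + z, by rw [map_add, hy, hz, add_smul]⟩

theorem kills1_mul {N : Type*} [AddCommGroup N] [Module R N] {a : R} (b : R)
    (ha : Kills1 g a N) : Kills1 g (b * a) N := by
  intro x hx
  obtain ⟨y, hy⟩ := ha x hx
  exact ⟨b • y, by rw [map_smul, hy, mul_smul]⟩

theorem kills1_zero {N : Type*} [AddCommGroup N] [Module R N] : Kills1 g 0 N :=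
  fun x _ => ⟨0, by rw [map_zero, zero_smul]⟩

variable {P N : Type*} [AddCommGroup P] [Module R P] [AddCommGroup N] [Module R N]

theorem kills0_of_retract {b : ℕ} {e a : R} (α : Fin b → (N →ₗ[R] P)) (β : Fin b → (P →ₗ[R] N))
    (h : ∀ x, ∑ j, β j (α j x) = e • x) (hP : Kills0 g a P) : Kills0 g (e * a) N := by
  intro x hx
  choose y hy using fun j => hP (map0 (PS g) (α j) x) (by rw [← map1_d0, hx, map_zero])
  refine ⟨∑ j, β j (y j), ?_⟩
  have e1 : ∑ j, (β j).comp (α j) = e • LinearMap.id := by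
    ext z
    rw [LinearMap.sum_apply]
    exact h z
  have e2 : map0 (PS g) (∑ j, (β j).comp (α j)) x = e • x := by
    rw [e1]
    funext i
    obtain ⟨n, u, hu⟩ := exists_eq_mk (x i)
    change lmap _ (e • LinearMap.id) (x i) = e • x i
    rw [hu, lmap_mk, LocalizedModule.smul'_mk]
    rfl
  rw [map0_sum] at e2
  rw [map_sum, mul_comm, mul_smul, ← e2, Finset.smul_sum]
  refine Finset.sum_congr rfl fun j _ => ?_
  rw [← map0_ε, hy, map_smul, map0_comp]

theorem kills1_of_retract {b : ℕ} {e a : R} (α : Fin b → (N →ₗ[R] P)) (β : Fin b → (P →ₗ[R] N))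
    (h : ∀ x, ∑ j, β j (α j x) = e • x) (hP : Kills1 g a P) : Kills1 g (e * a) N := by
  intro x hx
  choose y hy using fun j => hP (map1 (PS g) (α j) x) (by rw [← map2_d1, hx, map_zero])
  refine ⟨∑ j, map0 (PS g) (β j) (y j), ?_⟩
  have e1 : ∑ j, (β j).comp (α j) = e • LinearMap.id := by
    ext z
    rw [LinearMap.sum_apply]
    exact h z
  have e2 : map1 (PS g) (∑ j, (β j).comp (α j)) x = e • x := by
    rw [e1]
    funext i j
    obtain ⟨n, u, hu⟩ := exists_eq_mk (x i j)
    change lmap _ (e • LinearMap.id) (x i j) = e • x i j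
    rw [hu, lmap_mk, LocalizedModule.smul'_mk]
    rfl
  rw [map1_sum] at e2
  rw [map_sum, mul_comm, mul_smul, ← e2, Finset.smul_sum]
  refine Finset.sum_congr rfl fun j _ => ?_
  rw [← map1_d0, hy, map_smul, map1_comp]

end Kills

section Ideals

variable {R : Type*} [CommRing R] {ι : Type*} (g : ι → R) (N : Type*) [AddCommGroup N] [Module R N]

/-- The ideal of `b` with `e b` killing `ker d0 / im ε` and `H¹`. -/
def kk (e : R) : Ideal R where
  carrier := {b | Kills0 g (e * b) N ∧ Kills1 g (e * b) N}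
  add_mem' {a b} ha hb := by
    rw [Set.mem_ofPred_eq, mul_add]
    exact ⟨kills0_add ha.1 hb.1, kills1_add ha.2 hb.2⟩
  zero_mem' := by
    rw [Set.mem_ofPred_eq, mul_zero]
    exact ⟨kills0_zero, kills1_zero⟩
  smul_mem' c a ha := by
    rw [Set.mem_ofPred_eq, smul_eq_mul, mul_left_comm]
    exact ⟨kills0_mul c ha.1, kills1_mul c ha.2⟩

theorem mem_kk {e b : R} : b ∈ kk g N e ↔ Kills0 g (e * b) N ∧ Kills1 g (e * b) N := Iff.rfl

end Ideals

section Flat

variable {R R' B : Type*} [CommRing R] [CommRing R'] [CommRing B] [Algebra R R'] [Algebra R B]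
  [Algebra R' B] [IsScalarTower R R' B] [IsNoetherianRing R'] [Module.Finite R' B] {ι : Type*}
  (g : ι → R)

theorem exists_pow_mem_kk (b : R) (hfl : Module.Flat (Localization.Away (algebraMap R R' b))
    (Localization.Away (algebraMap R R' b) ⊗[R'] B)) (e : R) :
    ∃ N : ℕ, ∀ a ∈ kk g R' e, b ^ N * a ∈ kk g B e := by
  obtain ⟨r, n, α, β, h⟩ := exists_retract (algebraMap R R' b) B hfl
  let α' : Fin r → (B →ₗ[R] R') := fun j => ((LinearMap.proj j).comp α).restrictScalars R
  let β' : Fin r → (R' →ₗ[R] B) := fun j =>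
    (β.comp (LinearMap.single R' (fun _ : Fin r => R') j)).restrictScalars R
  have h' : ∀ x, ∑ j, β' j (α' j x) = b ^ n • x := by
    intro x
    have e1 : ∑ j, β' j (α' j x) = β (∑ j, LinearMap.single R' (fun _ : Fin r => R') j (α x j)) := by
      rw [map_sum]
      rfl
    have e2 : ∑ j, LinearMap.single R' (fun _ : Fin r => R') j (α x j) = α x :=
      Finset.univ_sum_single (α x)
    rw [e1, e2, h, ← map_pow, algebraMap_smul]
  refine ⟨n, fun a ha => ?_⟩
  rw [mem_kk] at ha ⊢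
  rw [mul_left_comm]
  exact ⟨kills0_of_retract α' β' h' ha.1, kills1_of_retract α' β' h' ha.2⟩

theorem exists_ideal [IsNoetherianRing R] (𝔟 : Ideal R)
    (hfl : ∀ b ∈ 𝔟, Module.Flat (Localization.Away (algebraMap R R' b))
    (Localization.Away (algebraMap R R' b) ⊗[R'] B)) (e : R) :
    ∃ 𝔟' : Ideal R, 𝔟 ≤ 𝔟'.radical ∧ ∀ a ∈ kk g R' e, ∀ b ∈ 𝔟', b * a ∈ kk g B e := by
  obtain ⟨s, hs⟩ := (IsNoetherian.noetherian 𝔟 : 𝔟.FG)
  have hmem : ∀ b ∈ s, b ∈ 𝔟 := fun b hb => hs ▸ Submodule.subset_span hb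
  choose! N hN using fun b (hb : b ∈ s) => exists_pow_mem_kk (B := B) g b (hfl b (hmem b hb)) e
  refine ⟨Ideal.span ((fun b => b ^ N b) '' (s : Set R)), ?_, fun a ha b hb => ?_⟩
  · rw [← hs, Submodule.span_le]
    intro b hb
    exact ⟨N b, Ideal.subset_span ⟨b, hb, rfl⟩⟩
  · induction hb using Submodule.span_induction with
    | mem b hb =>
      obtain ⟨c, hc, rfl⟩ := hb
      exact hN c hc a ha
    | zero => rw [zero_mul]; exact (kk g B e).zero_mem
    | add b c _ _ hb hc => rw [add_mul]; exact (kk g B e).add_mem hb hc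
    | smul c b _ hb => rw [smul_eq_mul, mul_assoc]; exact (kk g B e).mul_mem_left c hb

end Flat

theorem FC.tr {R B : Type*} [CommRing R] [CommRing B] [Algebra R B] {f : R} (h : FC f B) :
    FC (algebraMap R B f) B where
  sep x hx := h.sep x fun n => by
    obtain ⟨y, hy⟩ := hx n
    exact ⟨y, by rw [hy, ← map_pow, algebraMap_smul]⟩
  sum b := by
    obtain ⟨s, hs⟩ := h.sum b
    refine ⟨s, fun n => ?_⟩
    obtain ⟨y, hy⟩ := hs n
    refine ⟨y, ?_⟩
    rw [hy, ← map_pow, algebraMap_smul]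
    congr 1
    refine Finset.sum_congr rfl fun k _ => ?_
    rw [← map_pow, algebraMap_smul]

theorem fc_of_finite {A : Type u} [CommRing A] [IsNoetherianRing A] (f : A)
    [IsAdicComplete (Ideal.span {f}) A] (M : Type u) [AddCommGroup M] [Module A M]
    [Module.Finite A M] : FC f M := by
  constructor
  · intro x hx
    have hH : IsHausdorff (Ideal.span {f}) M :=
      IsHausdorff.of_le_jacobson _ _ (IsAdicComplete.le_jacobson_bot _)
    refine hH.haus x fun n => ?_
    rw [SModEq.zero, mem_span_pow_smul_top]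
    exact hx n
  · intro b
    obtain ⟨r, π, hπ⟩ := Module.Finite.exists_fin' A M
    choose b' hb' using fun n => hπ (b n)
    have hF : FC f (Fin r → A) := FC.pi fun _ => FC.of_isAdicComplete
    obtain ⟨s, hs⟩ := hF.sum b'
    refine ⟨π s, fun n => ?_⟩
    obtain ⟨y, hy⟩ := hs n
    refine ⟨π y, ?_⟩
    rw [hy]
    simp only [map_add, map_smul, map_sum, hb']

/-- **Decompositions of `V(f)` for finite, generically flat algebras.** -/
theorem exists_opens_finite {R : Type u} [CommRing R] [IsNoetherianRing R] [IsLocalRing R] (f : R)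
    (hf : f ∈ maximalIdeal R) [IsAdicComplete (Ideal.span {f}) R]
    {R' : Type u} [CommRing R'] [Algebra R R'] [Module.Finite R R'] (n : ℕ) (c : Ideal R)
    (hc : maximalIdeal R ≤ (c ⊔ Ideal.span {f}).radical)
    (hk1 : ∀ a ∈ c, ∀ x : LocCoh.H (maximalIdeal R) 1 R', (f ^ n * a) • x = 0)
    (hk2 : ∀ a ∈ c, ∀ x : LocCoh.H (maximalIdeal R) 2 R', (f ^ n * a) • x = 0)
    (B : Type u) [CommRing B] [Algebra R B] [Algebra R' B] [IsScalarTower R R' B]
    [Module.Finite R' B] (hreg : ∀ b : B, f • b = 0 → b = 0) (𝔟 : Ideal R)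
    (h𝔟 : maximalIdeal R ≤ (𝔟 ⊔ Ideal.span {f}).radical)
    (hfl : ∀ b ∈ 𝔟, Module.Flat (Localization.Away (algebraMap R R' b))
      (Localization.Away (algebraMap R R' b) ⊗[R'] B))
    (Z₀ Z₁ : Set (PrimeSpectrum B)) (h0 : IsClosed Z₀) (h1 : IsClosed Z₁)
    (hc' : ∀ p : PrimeSpectrum B, algebraMap R B f ∈ p.asIdeal →
      ¬ (maximalIdeal R).map (algebraMap R B) ≤ p.asIdeal → (p ∈ Z₀ ∨ p ∈ Z₁))
    (hd' : ∀ p : PrimeSpectrum B, algebraMap R B f ∈ p.asIdeal →
      ¬ (maximalIdeal R).map (algebraMap R B) ≤ p.asIdeal → p ∈ Z₀ → p ∈ Z₁ → False) :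
    ∃ O₀ O₁ : Set (PrimeSpectrum B), IsOpen O₀ ∧ IsOpen O₁ ∧ Disjoint O₀ O₁ ∧
      ∀ p : PrimeSpectrum B, algebraMap R B f ∈ p.asIdeal →
        ¬ (maximalIdeal R).map (algebraMap R B) ≤ p.asIdeal →
        ((p ∈ Z₀ → p ∈ O₀) ∧ (p ∈ Z₁ → p ∈ O₁)) := by
  have hR'N : IsNoetherianRing R' := IsNoetherianRing.of_finite R R'
  have hBN : IsNoetherianRing B := IsNoetherianRing.of_finite R' B
  have hBfin : Module.Finite R B := Module.Finite.trans R' B
  obtain ⟨s, hs⟩ := (IsNoetherian.noetherian (maximalIdeal R) : (maximalIdeal R).FG)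
  let g : s → R := fun x => x.1
  have hg0 : Ideal.span (Set.range g) = maximalIdeal R := by
    rw [← hs, Subtype.range_coe_subtype]
    rfl
  have hg : (maximalIdeal R).radical = (Ideal.span (Set.range g)).radical := by rw [hg0]
  have hcc : c ≤ kk g R' (f ^ n) := fun a ha =>
    ⟨kills0_of_LocCoh g hg R' _ (hk1 a ha), kills1_of_LocCoh g hg R' _ (hk2 a ha)⟩
  obtain ⟨𝔟', h𝔟', hkk⟩ := exists_ideal (R' := R') (B := B) g 𝔟 hfl (f ^ n)
  have h𝔟1 : maximalIdeal R ≤ (𝔟' ⊔ Ideal.span {f}).radical := by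
    refine h𝔟.trans ?_
    rw [← Ideal.radical_idem (𝔟' ⊔ Ideal.span {f})]
    refine Ideal.radical_mono (sup_le ?_ ?_)
    · exact h𝔟'.trans (Ideal.radical_mono le_sup_left)
    · exact le_sup_right.trans Ideal.le_radical
  let 𝔠 : Ideal R := 𝔟' * c
  have h𝔠 : maximalIdeal R ≤ (𝔠 ⊔ Ideal.span {f}).radical :=
    QuotAnn.le_radical_mul_sup h𝔟1 hc
  have hkB : 𝔠 ≤ kk g B (f ^ n) := Ideal.mul_le.2 fun b hb a ha => hkk a (hcc ha) b hb
  -- over `B`
  let gB : s → B := gm B g
  let fB : B := algebraMap R B f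
  have hkB' : 𝔠.map (algebraMap R B) ≤ kk gB B (fB ^ n) := by
    rw [Ideal.map_le_iff_le_comap]
    intro a ha
    obtain ⟨ha0, ha1⟩ := hkB ha
    have e1 : algebraMap R B (f ^ n * a) = fB ^ n * algebraMap R B a := by
      rw [map_mul, map_pow]
    rw [Ideal.mem_comap, mem_kk, ← e1]
    exact ⟨kills0_tr g ha0, kills1_tr g ha1⟩
  have hregB : ∀ b : B, fB * b = 0 → b = 0 := fun b hb => hreg b (by rw [Algebra.smul_def]; exact hb)
  have hspan : Ideal.span (Set.range gB) = (maximalIdeal R).map (algebraMap R B) := by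
    rw [← hg0, Ideal.map_span, ← Set.range_comp]
    rfl
  have hFC : FC fB B := by
    exact FC.tr (fc_of_finite f B)
  have hε : ∀ a : B, ε (PS gB) a = 0 → a = 0 :=
    Groth.Agent.Pi1C.FormFin.ε_injective ((maximalIdeal R).map (algebraMap R B)) gB (by rw [hspan]) fB
      (Ideal.mem_map_of_mem _ hf) hregB
  have hgr : ∀ i, gB i ∈ (𝔠.map (algebraMap R B) ⊔ Ideal.span {fB}).radical := by
    intro i
    have h2 : g i ∈ (𝔠 ⊔ Ideal.span {f}).radical := h𝔠 (hg0 ▸ Ideal.subset_span ⟨i, rfl⟩)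
    have h3 := Ideal.map_radical_le (algebraMap R B) (Ideal.mem_map_of_mem (algebraMap R B) h2)
    rwa [Ideal.map_sup, Ideal.map_span, Set.image_singleton] at h3
  have hnot : ∀ p : PrimeSpectrum B, ∀ i, gB i ∉ p.asIdeal →
      ¬ (maximalIdeal R).map (algebraMap R B) ≤ p.asIdeal := by
    intro p i hi h
    refine hi (h ?_)
    rw [← hspan]
    exact Ideal.subset_span ⟨i, rfl⟩
  obtain ⟨O₀, O₁, hO₀, hO₁, hdis, hO⟩ := FormIdem.exists_opens (f := fB) (g := gB) hFC hregB hε
    (𝔠.map (algebraMap R B)) n (fun a ha => (hkB' ha).1) (fun a ha => (hkB' ha).2) hgr Z₀ Z₁ h0 h1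
    (fun p hp i hi => hc' p hp (hnot p i hi)) (fun p hp i hi => hd' p hp (hnot p i hi))
  refine ⟨O₀, O₁, hO₀, hO₁, hdis, fun p hp hmp => ?_⟩
  obtain ⟨i, hi⟩ : ∃ i, gB i ∉ p.asIdeal := by
    by_contra hcon
    push Not at hcon
    refine hmp ?_
    rw [← hspan, Ideal.span_le]
    rintro _ ⟨i, rfl⟩
    exact hcon i
  exact hO p hp i hi

end K155.FlatKill
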