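import Groth.Agent.Pi1C.FormO
import Mathlib.RingTheory.Spectrum.Prime.Topology
import Mathlib.RingTheory.Filtration

/-!
# Decompositions of `U ∩ V(f)` extend to open neighbourhoods

`A` a Noetherian ring, `f`-adically complete, `f` a nonzerodivisor, `g` a finite family with
`U = ⋃ D(g i)`, `c` an ideal with `g i ∈ √(c + (f))` such that `f^n0 c` kills the Čech cohomology of
`A` in degrees `0`, `1` (i.e. `H¹, H²` with supports). Then every decomposition of `U ∩ V(f)` into two
closed subsets is induced by two disjoint open subsets of `Spec A`.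
-/

set_option autoImplicit false

namespace K155.FormIdem

open Groth.Agent.FormalA.CechSub Groth.Agent.FormalA.CechLC Groth.Agent.FormalA.LocSub
open Groth.Agent.FormalA.CompleteCx
open Groth.Agent.Pi1C.FormLim Groth.Agent.Pi1C.FormSys Groth.Agent.Pi1C.FormCech
  Groth.Agent.Pi1C.FormKill Groth.Agent.Pi1C.FormO

section Seq

variable {A : Type*} [CommRing A] {ι : Type*} {f : A} {g : ι → A}

/-- Sequences of cochains which are compatible cocycles modulo powers of `f`. -/
structure Seq (f : A) (g : ι → A) (x : ℕ → C0 (PS g) A) : Prop where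
  step : ∀ j, ∃ w, x (j + 1) - x j = f ^ (j + 1) • w
  d : ∀ j, ∃ y, d0 (PS g) (x j) = f ^ (j + 1) • y

variable {x : ℕ → C0 (PS g) A}

theorem Seq.le (h : Seq f g x) (j m : ℕ) : ∃ w, x (j + m) - x j = f ^ (j + 1) • w := by
  induction m with
  | zero => exact ⟨0, by rw [Nat.add_zero, sub_self, smul_zero]⟩
  | succ m ih =>
    obtain ⟨w, hw⟩ := ih
    obtain ⟨v, hv⟩ := h.step (j + m)
    refine ⟨f ^ m • v + w, ?_⟩
    rw [smul_add, smul_smul, ← pow_add, ← hw, show j + 1 + m = j + m + 1 by omega, ← hv]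
    rw [show j + (m + 1) = j + m + 1 by omega]
    abel

theorem Seq.exists_of_smul (h : Seq f g x) (hA : FC f A) (hreg : ∀ a : A, f * a = 0 → a = 0)
    (hε : ∀ a : A, ε (PS g) a = 0 → a = 0) (n0 : ℕ) (t t' : A) (h0 : Kills0 g (f ^ n0 * t') A)
    (h1 : Kills1 g (f ^ n0 * t) A) :
    ∃ a : A, ∀ j, ∃ w, ε (PS g) a - (f ^ n0 * (t' * t)) • x j = f ^ (j + 1) • w := by
  choose y hy using fun j => h.d (j + n0)
  have hdy : ∀ j, d1 (PS g) (y j) = 0 := fun j =>
    reg_C2 hreg (j + n0 + 1) _ (by rw [← map_smul, ← hy, d1_d0])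
  choose z hz using fun j => h1 _ (hdy j)
  let u : ℕ → C0 (PS g) A := fun j => t • x (j + n0) - f ^ (j + 1) • z j
  have hu : ∀ j, d0 (PS g) (u j) = 0 := by
    intro j
    change d0 (PS g) (t • x (j + n0) - f ^ (j + 1) • z j) = 0
    rw [map_sub, map_smul, map_smul, hy, hz, smul_smul, smul_smul, sub_eq_zero]
    congr 1
    ring
  choose a ha using fun j => h0 _ (hu j)
  have hstep : ∀ j, ∃ b : A, a (j + 1) - a j = f ^ (j + 1) * b := by
    intro j
    obtain ⟨w, hw⟩ : ∃ w : C0 (PS g) A, x (j + 1 + n0) - x (j + n0) = f ^ (j + n0 + 1) • w := by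
      obtain ⟨w, hw⟩ := h.step (j + n0)
      exact ⟨w, by rw [← hw, show j + 1 + n0 = j + n0 + 1 by omega]⟩
    let v : C0 (PS g) A := (t * f ^ n0) • w - f • z (j + 1) + z j
    have huv : u (j + 1) - u j = f ^ (j + 1) • v := by
      change t • x (j + 1 + n0) - f ^ (j + 1 + 1) • z (j + 1) -
        (t • x (j + n0) - f ^ (j + 1) • z j) =
        f ^ (j + 1) • ((t * f ^ n0) • w - f • z (j + 1) + z j)
      have e1 : t • x (j + 1 + n0) = t • x (j + n0) + (t * f ^ (j + n0 + 1)) • w := by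
        rw [mul_smul, ← hw, smul_sub]
        abel
      rw [e1, smul_add, smul_sub, smul_smul, smul_smul,
        show f ^ (j + 1) * (t * f ^ n0) = t * f ^ (j + n0 + 1) by ring, ← pow_succ]
      abel
    have hdv : d0 (PS g) v = 0 := reg_C1 hreg (j + 1) _ (by
      rw [← map_smul, ← huv, map_sub, hu, hu, sub_self])
    obtain ⟨b, hb⟩ := h0 v hdv
    refine ⟨b, ?_⟩
    rw [← sub_eq_zero]
    refine hε _ ?_
    have e2 : ε (PS g) (f ^ (j + 1) * b) = f ^ (j + 1) • ε (PS g) b := by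
      rw [← map_smul, smul_eq_mul]
    rw [map_sub, map_sub, ha, ha, e2, hb, ← smul_sub, huv, smul_smul, smul_smul,
      mul_comm (f ^ (j + 1)), sub_self]
  choose b hb using hstep
  have hsum : ∀ n, a n = a 0 + f * ∑ k ∈ Finset.range n, f ^ k * b k := by
    intro n
    induction n with
    | zero => simp
    | succ n ih =>
      rw [Finset.sum_range_succ, mul_add, ← add_assoc, ← ih, ← mul_assoc, ← pow_succ', ← hb]
      ring
  obtain ⟨s, hs'⟩ := hA.sum b
  refine ⟨a 0 + f * s, fun n => ?_⟩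
  obtain ⟨r, hr⟩ := hs' n
  have e3 : a 0 + f * s = a n + f ^ (n + 1) * r := by
    rw [hsum n, hr]
    simp only [smul_eq_mul]
    ring
  obtain ⟨w, hw⟩ := h.le n n0
  refine ⟨(f ^ n0 * (t' * t)) • w - (f ^ n0 * t') • z n + ε (PS g) r, ?_⟩
  have e2 : ε (PS g) (f ^ (n + 1) * r) = f ^ (n + 1) • ε (PS g) r := by
    rw [← map_smul, smul_eq_mul]
  rw [e3, map_add, e2, ha]
  change (f ^ n0 * t') • (t • x (n + n0) - f ^ (n + 1) • z n) + f ^ (n + 1) • ε (PS g) r -
    (f ^ n0 * (t' * t)) • x n = _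
  have e4 : (f ^ n0 * (t' * t)) • x (n + n0) = (f ^ n0 * (t' * t)) • x n +
      (f ^ n0 * (t' * t)) • f ^ (n + 1) • w := by
    rw [← hw, smul_sub]
    abel
  rw [smul_sub, smul_smul, show f ^ n0 * t' * t = f ^ n0 * (t' * t) by ring, e4, smul_add, smul_sub,
    smul_comm (f ^ (n + 1)) (f ^ n0 * (t' * t)), smul_comm (f ^ (n + 1)) (f ^ n0 * t')]
  abel

theorem mem_sup_powers {a b : A} {u : A} (hu : u ∈ Submonoid.powers a ⊔ Submonoid.powers b) :
    ∃ p q : ℕ, u = a ^ p * b ^ q := by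
  obtain ⟨_, ⟨p, rfl⟩, _, ⟨q, rfl⟩, rfl⟩ := Submonoid.mem_sup.1 hu
  exact ⟨p, q, rfl⟩

/-- Divisibility by `e` can be tested after further localization, up to powers. -/
theorem exists_of_res (i i' : ι) (e : A) (q : LocalizedModule (PS g i') A)
    (y : LocalizedModule (PS g i ⊔ PS g i') A) (h : res (le22 (PS g) i i') q = e • y) :
    ∃ (k : ℕ) (w : LocalizedModule (PS g i') A), g i ^ k • q = e • w := by
  obtain ⟨b, s, rfl⟩ := exists_eq_mk y
  obtain ⟨c, s', rfl⟩ := exists_eq_mk q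
  rw [res_mk, LocalizedModule.smul'_mk, LocalizedModule.mk_eq] at h
  obtain ⟨u, hu⟩ := h
  obtain ⟨p1, q1, h1⟩ := mem_sup_powers u.2
  obtain ⟨p2, q2, h2⟩ := mem_sup_powers s.2
  change (u : A) • (s : A) • c = (u : A) • (s' : A) • (e • b) at hu
  simp only [smul_eq_mul] at hu
  refine ⟨p1 + p2, LocalizedModule.mk ((u : A) * b) ⟨g i' ^ (q1 + q2), ⟨_, rfl⟩⟩, ?_⟩
  rw [LocalizedModule.smul'_mk, LocalizedModule.smul'_mk, LocalizedModule.mk_eq]
  refine ⟨1, ?_⟩
  rw [one_smul, one_smul]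
  change (g i' ^ (q1 + q2)) • (g i ^ (p1 + p2) • c) = (s' : A) • (e • ((u : A) * b))
  simp only [smul_eq_mul]
  have e1 : g i' ^ (q1 + q2) * (g i ^ (p1 + p2) * c) = (u : A) * ((s : A) * c) := by
    rw [h1, h2]
    ring
  rw [e1, hu]
  ring

/-- A cochain which is a cocycle modulo `e` is locally the image of an element modulo `e`. -/
theorem exists_loc_of_cocycle [Finite ι] (e : A) (z : C0 (PS g) A) (y : C1 (PS g) A)
    (h : d0 (PS g) z = e • y) (i : ι) :
    ∃ (k : ℕ) (a : A) (w : C0 (PS g) A), ε (PS g) a - g i ^ k • z = e • w := by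
  cases nonempty_fintype ι
  obtain ⟨a, s, hs⟩ := exists_eq_mk (z i)
  obtain ⟨k1, hk1⟩ := s.2
  have hk1' : g i ^ k1 = (s : A) := hk1
  have hi : g i ^ k1 • z i = LocalizedModule.mkLinearMap (PS g i) A a := by
    rw [hs, hk1', mk_smul_self]
  have h2 : ∀ i', ∃ (k : ℕ) (w : LocalizedModule (PS g i') A),
      g i ^ k • (LocalizedModule.mkLinearMap (PS g i') A a - g i ^ k1 • z i') = e • w := by
    intro i'
    refine exists_of_res i i' e _ (- (g i ^ k1 • y i i')) ?_
    have h3 : d0 (PS g) z i i' = (e • y) i i' := by rw [h]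
    rw [d0_apply] at h3
    change _ = e • y i i' at h3
    rw [map_sub, map_smul, res_mkLinearMap, smul_neg, smul_comm e, ← h3, smul_sub, ← map_smul,
      ← map_smul, hi, res_mkLinearMap]
    rw [map_smul]
    abel
  choose k w hw using h2
  refine ⟨(∑ j, k j) + k1, g i ^ (∑ j, k j) * a, fun i' =>
    g i ^ ((∑ j, k j) - k i') • w i', ?_⟩
  funext i'
  have hle : k i' ≤ ∑ j, k j := Finset.single_le_sum (f := k) (fun _ _ => Nat.zero_le _)
    (Finset.mem_univ i')
  change LocalizedModule.mkLinearMap (PS g i') A (g i ^ (∑ j, k j) * a) -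
    g i ^ ((∑ j, k j) + k1) • z i' = e • (g i ^ ((∑ j, k j) - k i') • w i')
  rw [smul_comm e, ← hw, smul_smul, ← pow_add, Nat.sub_add_cancel hle, ← smul_eq_mul, map_smul,
    smul_sub, smul_smul, ← pow_add]

theorem Seq.exists_alg [Finite ι] (h : Seq f g x) (hA : FC f A)
    (hreg : ∀ a : A, f * a = 0 → a = 0)
    (hε : ∀ a : A, ε (PS g) a = 0 → a = 0) (n0 : ℕ) (t t' : A) (h0 : Kills0 g (f ^ n0 * t') A)
    (h1 : Kills1 g (f ^ n0 * t) A) (i : ι) :
    ∃ (k : ℕ) (a : A), ∀ j, ∃ w, ε (PS g) a - (t' * t * g i ^ k) • x j = f ^ (j + 1) • w := by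
  obtain ⟨y0, hy0⟩ := h.d n0
  obtain ⟨k, a0, w0, hw0⟩ := exists_loc_of_cocycle (f ^ (n0 + 1)) (x n0) y0 hy0 i
  -- the shifted sequence
  have hc : ∀ j, ∃ c : C0 (PS g) A, g i ^ k • x (j + n0) - ε (PS g) a0 = f ^ (n0 + 1) • c := by
    intro j
    obtain ⟨w, hw⟩ := h.le n0 j
    refine ⟨g i ^ k • w - w0, ?_⟩
    rw [smul_sub, smul_comm (f ^ (n0 + 1)) (g i ^ k), ← hw, ← hw0, smul_sub, add_comm n0 j]
    abel
  choose c hc using hc
  have hseq : Seq f g (fun j => c (j + 1)) := by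
    constructor
    · intro j
      obtain ⟨w, hw⟩ := h.step (j + 1 + n0)
      refine ⟨g i ^ k • w, ?_⟩
      rw [← sub_eq_zero]
      refine reg_C0 hreg (n0 + 1) _ ?_
      rw [smul_sub, smul_sub, ← hc, ← hc, smul_comm (f ^ (j + 1)) (g i ^ k), smul_comm (f ^ (n0 + 1)) (g i ^ k),
        smul_smul (f ^ (n0 + 1)), ← pow_add, show n0 + 1 + (j + 1) = j + 1 + n0 + 1 by omega, ← hw,
        show j + 1 + 1 + n0 = j + 1 + n0 + 1 by omega, smul_sub]
      abel
    · intro j
      obtain ⟨y, hy⟩ := h.d (j + 1 + n0)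
      refine ⟨g i ^ k • y, ?_⟩
      rw [← sub_eq_zero]
      refine reg_C1 hreg (n0 + 1) _ ?_
      rw [smul_sub, ← map_smul, ← hc, map_sub, d0_ε, sub_zero, map_smul, hy,
        smul_comm (f ^ (j + 1)) (g i ^ k), smul_comm (f ^ (n0 + 1)) (g i ^ k), smul_smul (f ^ (n0 + 1)),
        ← pow_add, show n0 + 1 + (j + 1) = j + 1 + n0 + 1 by omega, sub_self]
  obtain ⟨a1, ha1⟩ := hseq.exists_of_smul hA hreg hε n0 t t' h0 h1
  refine ⟨k, (t' * t) * a0 + f * a1, fun j => ?_⟩
  obtain ⟨w, hw⟩ := ha1 j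
  obtain ⟨v, hv⟩ := h.le j (1 + n0)
  have hc' := hc (j + 1)
  have e1 : ε (PS g) ((t' * t) * a0 + f * a1) = (t' * t) • ε (PS g) a0 + f • ε (PS g) a1 := by
    rw [map_add, ← smul_eq_mul, map_smul, ← smul_eq_mul f, map_smul]
  refine ⟨f • w + (t' * t * g i ^ k) • v, ?_⟩
  rw [e1, smul_add, smul_comm (f ^ (j + 1)) f, ← hw, smul_comm (f ^ (j + 1)) (t' * t * g i ^ k), ← hv,
    smul_sub f, smul_smul f, show f * (f ^ n0 * (t' * t)) = (t' * t) * f ^ (n0 + 1) by ring,
    mul_smul (t' * t) (f ^ (n0 + 1)), ← hc', smul_sub, smul_smul (t' * t),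
    show j + 1 + n0 = j + (1 + n0) by omega, smul_sub]
  abel

end Seq

section Idem

variable {R : Type*} [CommRing R] (f : R)

theorem mk_idem {I : Ideal R} {e : R} (he : e * e - e ∈ I) :
    IsIdempotentElem (Ideal.Quotient.mk I e) := by
  rw [IsIdempotentElem, ← map_mul, Ideal.Quotient.eq]
  exact he

theorem mem_of_pow_span {n : ℕ} (q : PrimeSpectrum (R ⧸ Ideal.span {f ^ (n + 1)})) :
    f ∈ (PrimeSpectrum.comap (Ideal.Quotient.mk (Ideal.span {f ^ (n + 1)})) q).asIdeal := by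
  refine (PrimeSpectrum.isPrime _).mem_of_pow_mem (n + 1) ?_
  change Ideal.Quotient.mk _ _ ∈ q.asIdeal
  rw [Ideal.Quotient.eq_zero_iff_mem.2 (Ideal.mem_span_singleton_self _)]
  exact q.asIdeal.zero_mem

theorem sub_mem_of_idem {n : ℕ} {e e' : R} (he : e * e - e ∈ Ideal.span {f ^ (n + 1)})
    (he' : e' * e' - e' ∈ Ideal.span {f ^ (n + 1)})
    (h : ∀ p : PrimeSpectrum R, f ∈ p.asIdeal → (e ∉ p.asIdeal ↔ e' ∉ p.asIdeal)) :
    e - e' ∈ Ideal.span {f ^ (n + 1)} := by
  rw [← Ideal.Quotient.eq]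
  refine PrimeSpectrum.basicOpen_injOn_isIdempotentElem (mk_idem he) (mk_idem he') ?_
  ext q
  exact h (PrimeSpectrum.comap (Ideal.Quotient.mk (Ideal.span {f ^ (n + 1)})) q)
    (mem_of_pow_span f q)

theorem exists_idem (n : ℕ) (Z₀ Z₁ : Set (PrimeSpectrum R)) (h0 : IsClosed Z₀) (h1 : IsClosed Z₁)
    (hc : ∀ p : PrimeSpectrum R, f ∈ p.asIdeal → (p ∈ Z₀ ∨ p ∈ Z₁))
    (hd : ∀ p : PrimeSpectrum R, f ∈ p.asIdeal → p ∈ Z₀ → p ∈ Z₁ → False) :
    ∃ e : R, e * e - e ∈ Ideal.span {f ^ (n + 1)} ∧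
      ∀ p : PrimeSpectrum R, f ∈ p.asIdeal → (e ∉ p.asIdeal ↔ p ∈ Z₁) := by
  let I : Ideal R := Ideal.span {f ^ (n + 1)}
  let q : PrimeSpectrum (R ⧸ I) → PrimeSpectrum R := PrimeSpectrum.comap (Ideal.Quotient.mk I)
  have hq : Continuous q := PrimeSpectrum.continuous_comap _
  have hclopen : IsClopen (q ⁻¹' Z₁) := by
    refine ⟨h1.preimage hq, ?_⟩
    have e1 : q ⁻¹' Z₁ = (q ⁻¹' Z₀)ᶜ := by
      ext p
      simp only [Set.mem_preimage, Set.mem_compl_iff]
      have hf := mem_of_pow_span f p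
      exact ⟨fun h h' => hd _ hf h' h, fun h => (hc _ hf).resolve_left h⟩
    rw [e1]
    exact (h0.preimage hq).isOpen_compl
  obtain ⟨e', he', he'W⟩ := PrimeSpectrum.exists_idempotent_basicOpen_eq_of_isClopen hclopen
  obtain ⟨e, rfl⟩ := Ideal.Quotient.mk_surjective e'
  refine ⟨e, ?_, fun p hp => ?_⟩
  · rw [← Ideal.Quotient.eq, map_mul]
    exact he'
  · have hIp : RingHom.ker (Ideal.Quotient.mk I) ≤ p.asIdeal := by
      rw [Ideal.mk_ker, Ideal.span_singleton_le_iff_mem]
      exact Ideal.pow_mem_of_mem _ hp _ (Nat.succ_pos _)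
    obtain ⟨p', hp'⟩ : p ∈ Set.range q := by
      change p ∈ Set.range (PrimeSpectrum.comap (Ideal.Quotient.mk I))
      rw [range_comap_of_surjective _ _ Ideal.Quotient.mk_surjective]
      exact hIp
    rw [← hp']
    have h2 : p' ∈ q ⁻¹' Z₁ ↔ Ideal.Quotient.mk I e ∉ p'.asIdeal := by
      rw [he'W]
      rfl
    exact h2.symm

end Idem

section Main

variable {A : Type*} [CommRing A] {ι : Type*} {f : A} {g : ι → A}

/-- Restriction as a ring homomorphism. -/
noncomputable def resR {S T : Submonoid A} (h : S ≤ T) : Localization S →+* Localization T :=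
  IsLocalization.map (Localization T) (RingHom.id A) (M := S) (T := T) h

theorem resR_eq {S T : Submonoid A} (h : S ≤ T) (x : Localization S) :
    resR h x = res (N := A) h x := by
  obtain ⟨a, s, rfl⟩ := exists_eq_mk (S := S) (N := A) x
  have e1 : (LocalizedModule.mk a s : Localization S) = Localization.mk a s := rfl
  have e2 : (LocalizedModule.mk a ⟨s.1, h s.2⟩ : Localization T) =
    Localization.mk a ⟨s.1, h s.2⟩ := rfl
  rw [res_mk]
  refine Eq.trans ?_ e2.symm
  rw [e1, Localization.mk_eq_mk', resR, IsLocalization.map_mk', Localization.mk_eq_mk']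
  rfl

theorem resR_comp {S T : Submonoid A} (h : S ≤ T) (p : PrimeSpectrum (Localization T)) :
    PrimeSpectrum.comap (algebraMap A (Localization S)) (PrimeSpectrum.comap (resR h) p) =
      PrimeSpectrum.comap (algebraMap A (Localization T)) p := by
  rw [← PrimeSpectrum.comap_comp_apply]
  congr 1
  ext a
  change resR h (algebraMap A (Localization S) a) = _
  rw [resR, IsLocalization.map_eq, RingHom.id_apply]

theorem mem_span_iff {S : Submonoid A} (n : ℕ) (x : Localization S) :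
    x ∈ Ideal.span {algebraMap A (Localization S) f ^ n} ↔ ∃ w : Localization S, x = f ^ n • w := by
  rw [Ideal.mem_span_singleton']
  refine exists_congr fun w => ?_
  rw [Algebra.smul_def, map_pow, mul_comm, eq_comm]

theorem exists_seq (Z₀ Z₁ : Set (PrimeSpectrum A)) (h0 : IsClosed Z₀) (h1 : IsClosed Z₁)
    (hc : ∀ p : PrimeSpectrum A, f ∈ p.asIdeal → ∀ i, g i ∉ p.asIdeal → (p ∈ Z₀ ∨ p ∈ Z₁))
    (hd : ∀ p : PrimeSpectrum A, f ∈ p.asIdeal → ∀ i, g i ∉ p.asIdeal →
      p ∈ Z₀ → p ∈ Z₁ → False) :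
    ∃ x : ℕ → ∀ i, Localization (PS g i), Seq f g x ∧
      (∀ j i, ∃ w : Localization (PS g i), x j i * x j i - x j i = f ^ (j + 1) • w) ∧
      ∀ j i (p : PrimeSpectrum (Localization (PS g i))),
        algebraMap A (Localization (PS g i)) f ∈ p.asIdeal →
        (x j i ∉ p.asIdeal ↔ PrimeSpectrum.comap (algebraMap A (Localization (PS g i))) p ∈ Z₁) := by
  have key : ∀ j i, ∃ e : Localization (PS g i),
      e * e - e ∈ Ideal.span {algebraMap A (Localization (PS g i)) f ^ (j + 1)} ∧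
      ∀ p : PrimeSpectrum (Localization (PS g i)),
        algebraMap A (Localization (PS g i)) f ∈ p.asIdeal → (e ∉ p.asIdeal ↔
          p ∈ PrimeSpectrum.comap (algebraMap A (Localization (PS g i))) ⁻¹' Z₁) := by
    intro j i
    have hgi : ∀ p : PrimeSpectrum (Localization (PS g i)),
        g i ∉ (PrimeSpectrum.comap (algebraMap A (Localization (PS g i))) p).asIdeal := by
      intro p hp
      have hu : IsUnit (algebraMap A (Localization (PS g i)) (g i)) :=
        IsLocalization.map_units (Localization (PS g i)) (⟨g i, ⟨1, pow_one _⟩⟩ : PS g i)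
      exact p.isPrime.ne_top (Ideal.eq_top_of_isUnit_mem _ hp hu)
    refine exists_idem _ j (PrimeSpectrum.comap (algebraMap A (Localization (PS g i))) ⁻¹' Z₀)
      (PrimeSpectrum.comap (algebraMap A (Localization (PS g i))) ⁻¹' Z₁)
      (h0.preimage (PrimeSpectrum.continuous_comap _))
      (h1.preimage (PrimeSpectrum.continuous_comap _)) ?_ ?_
    · intro p hp
      exact hc _ hp i (hgi p)
    · intro p hp
      exact hd _ hp i (hgi p)
  choose x hx1 hx2 using key
  refine ⟨x, ⟨?_, ?_⟩, fun j i => (mem_span_iff _ _).1 (hx1 j i), hx2⟩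
  · intro j
    have h3 : ∀ i, ∃ w : Localization (PS g i), x (j + 1) i - x j i = f ^ (j + 1) • w := by
      intro i
      refine (mem_span_iff _ _).1 (sub_mem_of_idem _ ?_ (hx1 j i) fun p hp =>
        (hx2 (j + 1) i p hp).trans (hx2 j i p hp).symm)
      refine Ideal.span_singleton_le_span_singleton.2 ?_ (hx1 (j + 1) i)
      exact pow_dvd_pow _ (Nat.le_succ _)
    choose w hw using h3
    exact ⟨w, funext hw⟩
  · intro j
    have h3 : ∀ i i', ∃ w : Localization (PS g i ⊔ PS g i'),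
        resR (le22 (PS g) i i') (x j i') - resR (le12 (PS g) i i') (x j i) = f ^ (j + 1) • w := by
      intro i i'
      have hidem : ∀ (T : Submonoid A) (i : ι) (h : PS g i ≤ T),
          resR h (x j i) * resR h (x j i) - resR h (x j i) ∈
            Ideal.span {algebraMap A (Localization T) f ^ (j + 1)} := by
        intro T i h
        rw [← map_mul, ← map_sub]
        have h4 := Ideal.mem_map_of_mem (resR h) (hx1 j i)
        rw [Ideal.map_span, Set.image_singleton, map_pow] at h4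
        have h5 : resR h (algebraMap A (Localization (PS g i)) f) = algebraMap A (Localization T) f := by
          rw [resR, IsLocalization.map_eq, RingHom.id_apply]
        rwa [h5] at h4
      have hp : ∀ (T : Submonoid A) (i : ι) (h : PS g i ≤ T) (p : PrimeSpectrum (Localization T)),
          algebraMap A (Localization T) f ∈ p.asIdeal → (resR h (x j i) ∉ p.asIdeal ↔
            PrimeSpectrum.comap (algebraMap A (Localization T)) p ∈ Z₁) := by
        intro T i h p hp
        rw [← resR_comp h]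
        refine hx2 j i (PrimeSpectrum.comap (resR h) p) ?_
        change resR h (algebraMap A (Localization (PS g i)) f) ∈ p.asIdeal
        rwa [resR, IsLocalization.map_eq, RingHom.id_apply]
      refine (mem_span_iff _ _).1 (sub_mem_of_idem _ (hidem _ _ _) (hidem _ _ _) fun p hfp => ?_)
      exact (hp _ _ _ p hfp).trans (hp _ _ _ p hfp).symm
    choose w hw using h3
    refine ⟨w, funext fun i => funext fun i' => ?_⟩
    rw [d0_apply, ← resR_eq, ← resR_eq]
    exact hw i i'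

/-- Elements of `A` which are infinitely divisible by `f` locally on `⋃ D(g i)`. -/
def nullIdeal (f : A) (g : ι → A) : Ideal A where
  carrier := {c | ∀ j, ∃ w : C0 (PS g) A, ε (PS g) c = f ^ (j + 1) • w}
  add_mem' {a b} ha hb j := by
    obtain ⟨v, hv⟩ := ha j
    obtain ⟨w, hw⟩ := hb j
    exact ⟨v + w, by rw [map_add, hv, hw, smul_add]⟩
  zero_mem' j := ⟨0, by rw [map_zero, smul_zero]⟩
  smul_mem' c a ha j := by
    obtain ⟨v, hv⟩ := ha j
    exact ⟨c • v, by rw [map_smul, hv, smul_comm]⟩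

theorem mem_nullIdeal_iff (c : A) : c ∈ nullIdeal f g ↔
    ∀ j i, ∃ w : Localization (PS g i), algebraMap A (Localization (PS g i)) c =
      algebraMap A (Localization (PS g i)) f ^ (j + 1) * w := by
  refine forall_congr' fun j => ⟨?_, fun h => ?_⟩
  · rintro ⟨w, hw⟩ i
    refine ⟨w i, ?_⟩
    rw [← map_pow, ← Algebra.smul_def]
    exact congr_fun hw i
  · choose w hw using h
    refine ⟨w, funext fun i => ?_⟩
    have := hw i
    rw [← map_pow, ← Algebra.smul_def] at this
    exact this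

theorem exists_ann_aux [IsNoetherianRing A] (p : PrimeSpectrum A) (hf : f ∈ p.asIdeal) (i : ι)
    (hi : g i ∉ p.asIdeal) (c : A) (hc : c ∈ nullIdeal f g) : ∃ u : A, u ∉ p.asIdeal ∧ u * c = 0 := by
  let R := Localization (PS g i)
  have hR : IsNoetherianRing R := IsLocalization.isNoetherianRing (PS g i) R inferInstance
  have h1 : algebraMap A R c ∈ (⨅ j : ℕ, Ideal.span {algebraMap A R f} ^ j • ⊤ : Submodule R R) := by
    rw [Submodule.mem_iInf]
    intro j
    obtain ⟨w, hw⟩ := (mem_nullIdeal_iff c).1 hc j i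
    rw [hw, Ideal.span_singleton_pow, smul_eq_mul, Ideal.mul_top, pow_succ, mul_assoc]
    exact Ideal.mul_mem_right _ _ (Ideal.mem_span_singleton_self _)
  obtain ⟨⟨r, hr⟩, hrc⟩ := (Ideal.mem_iInf_smul_pow_eq_bot_iff _ _).1 h1
  obtain ⟨y, rfl⟩ := Ideal.mem_span_singleton'.1 hr
  obtain ⟨⟨b, s⟩, hy⟩ := IsLocalization.surj (PS g i) y
  change (y * algebraMap A R f) * algebraMap A R c = algebraMap A R c at hrc
  have h2 : algebraMap A R ((s : A) * c - b * (f * c)) = 0 := by
    rw [map_sub, map_mul, map_mul, map_mul, ← hy]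
    calc _ = algebraMap A R s * (algebraMap A R c - y * algebraMap A R f * algebraMap A R c) := by
          ring
      _ = 0 := by rw [hrc, sub_self, mul_zero]
  obtain ⟨v, hv⟩ := (IsLocalization.map_eq_zero_iff (PS g i) R _).1 h2
  refine ⟨(v : A) * ((s : A) - b * f), ?_, ?_⟩
  · intro hmem
    obtain ⟨k, hk⟩ := v.2
    obtain ⟨l, hl⟩ := s.2
    have hk' : g i ^ k = (v : A) := hk
    have hl' : g i ^ l = (s : A) := hl
    rcases p.isPrime.mem_or_mem hmem with h | h
    · rw [← hk'] at h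
      exact hi (p.isPrime.mem_of_pow_mem _ h)
    · have h5 : (s : A) ∈ p.asIdeal := by
        have := p.asIdeal.add_mem h (p.asIdeal.mul_mem_left b hf)
        rwa [sub_add_cancel] at this
      rw [← hl'] at h5
      exact hi (p.isPrime.mem_of_pow_mem _ h5)
  · rw [← hv]
    ring

theorem exists_ann [IsNoetherianRing A] (p : PrimeSpectrum A) (hf : f ∈ p.asIdeal) (i : ι)
    (hi : g i ∉ p.asIdeal) : ∃ u : A, u ∉ p.asIdeal ∧ ∀ c ∈ nullIdeal f g, u * c = 0 := by
  classical
  obtain ⟨s, hs⟩ := (IsNoetherian.noetherian (nullIdeal f g) : (nullIdeal f g).FG)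
  have hmem : ∀ c ∈ s, c ∈ nullIdeal f g := fun c hc => hs ▸ Submodule.subset_span hc
  choose! u hu1 hu2 using fun c (hc : c ∈ s) => exists_ann_aux p hf i hi c (hmem c hc)
  refine ⟨∏ c ∈ s, u c, ?_, fun c hc => ?_⟩
  · intro h
    obtain ⟨c, hc, h⟩ := (p.isPrime.prod_mem_iff (s := s)).1 h
    exact hu1 c hc h
  · rw [← hs] at hc
    induction hc using Submodule.span_induction with
    | mem c hc =>
      rw [← Finset.prod_erase_mul s u hc, mul_assoc, hu2 c hc, mul_zero]
    | zero => rw [mul_zero]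
    | add a b _ _ ha hb => rw [mul_add, ha, hb, add_zero]
    | smul a b _ hb => rw [smul_eq_mul, mul_left_comm, hb, mul_zero]

/-- **Decompositions of `U ∩ V(f)` extend.** -/
theorem exists_opens [IsNoetherianRing A] [Finite ι] (hA : FC f A)
    (hreg : ∀ a : A, f * a = 0 → a = 0) (hε : ∀ a : A, ε (PS g) a = 0 → a = 0) (𝔠 : Ideal A) (n0 : ℕ)
    (hk0 : ∀ a ∈ 𝔠, Kills0 g (f ^ n0 * a) A) (hk1 : ∀ a ∈ 𝔠, Kills1 g (f ^ n0 * a) A)
    (hg : ∀ i, g i ∈ (𝔠 ⊔ Ideal.span {f}).radical)
    (Z₀ Z₁ : Set (PrimeSpectrum A)) (h0 : IsClosed Z₀) (h1 : IsClosed Z₁)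
    (hc : ∀ p : PrimeSpectrum A, f ∈ p.asIdeal → ∀ i, g i ∉ p.asIdeal → (p ∈ Z₀ ∨ p ∈ Z₁))
    (hd : ∀ p : PrimeSpectrum A, f ∈ p.asIdeal → ∀ i, g i ∉ p.asIdeal →
      p ∈ Z₀ → p ∈ Z₁ → False) :
    ∃ O₀ O₁ : Set (PrimeSpectrum A), IsOpen O₀ ∧ IsOpen O₁ ∧ Disjoint O₀ O₁ ∧
      ∀ p : PrimeSpectrum A, f ∈ p.asIdeal → ∀ i, g i ∉ p.asIdeal →
        ((p ∈ Z₀ → p ∈ O₀) ∧ (p ∈ Z₁ → p ∈ O₁)) := by
  obtain ⟨x, hx, hxi, hxZ⟩ := exists_seq (f := f) (g := g) Z₀ Z₁ h0 h1 hc hd
  choose k b hb using fun (t : 𝔠) (i : ι) =>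
    hx.exists_alg hA hreg hε n0 t.1 t.1 (hk0 _ t.2) (hk1 _ t.2) i
  let s : 𝔠 → ι → A := fun t i => t.1 * t.1 * g i ^ k t i
  have hb' : ∀ (t : 𝔠) (i : ι) (j : ℕ) (i' : ι), ∃ w : Localization (PS g i'),
      algebraMap A (Localization (PS g i')) (b t i) =
        algebraMap A (Localization (PS g i')) (s t i) * x j i' +
          algebraMap A (Localization (PS g i')) f ^ (j + 1) * w := by
    intro t i j i'
    obtain ⟨w, hw⟩ := hb t i j
    refine ⟨w i', ?_⟩
    have h2 : algebraMap A (Localization (PS g i')) (b t i) - s t i • x j i' =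
      f ^ (j + 1) • w i' := congr_fun hw i'
    rw [← map_pow, ← Algebra.smul_def, ← Algebra.smul_def, ← h2]
    abel
  have hN1 : ∀ t i, b t i * (b t i - s t i) ∈ nullIdeal f g := by
    intro t i
    rw [mem_nullIdeal_iff]
    intro j i'
    obtain ⟨w, hw⟩ := hb' t i j i'
    obtain ⟨v, hv⟩ := hxi j i'
    rw [Algebra.smul_def, map_pow] at hv
    refine ⟨(algebraMap A (Localization (PS g i')) (s t i)) ^ 2 * v +
      2 * w * (algebraMap A (Localization (PS g i')) (s t i)) * x j i' +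
      algebraMap A (Localization (PS g i')) f ^ (j + 1) * w ^ 2 -
      w * algebraMap A (Localization (PS g i')) (s t i), ?_⟩
    rw [map_mul, map_sub, hw]
    linear_combination (algebraMap A (Localization (PS g i')) (s t i)) ^ 2 * hv
  have hN2 : ∀ t i t' i', s t' i' * b t i - s t i * b t' i' ∈ nullIdeal f g := by
    intro t i t' i'
    rw [mem_nullIdeal_iff]
    intro j l
    obtain ⟨w, hw⟩ := hb' t i j l
    obtain ⟨w', hw'⟩ := hb' t' i' j l
    refine ⟨algebraMap A (Localization (PS g l)) (s t' i') * w -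
      algebraMap A (Localization (PS g l)) (s t i) * w', ?_⟩
    have e1 : algebraMap A (Localization (PS g l)) (s t' i' * b t i - s t i * b t' i') =
      algebraMap A (Localization (PS g l)) (s t' i') * algebraMap A (Localization (PS g l)) (b t i) -
      algebraMap A (Localization (PS g l)) (s t i) *
        algebraMap A (Localization (PS g l)) (b t' i') := by
      rw [map_sub, map_mul _ (s t' i'), map_mul _ (s t i)]
    rw [e1, hw, hw']
    ring
  let W : Set (PrimeSpectrum A) := (PrimeSpectrum.zeroLocus ((nullIdeal f g).annihilator : Set A))ᶜ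
  have hW : IsOpen W := (PrimeSpectrum.isClosed_zeroLocus _).isOpen_compl
  have hWmem : ∀ p : PrimeSpectrum A, p ∈ W ↔
      ∃ u : A, u ∉ p.asIdeal ∧ ∀ c ∈ nullIdeal f g, u * c = 0 := by
    intro p
    change ¬ ((nullIdeal f g).annihilator : Set A) ⊆ p.asIdeal ↔ _
    rw [Set.not_subset]
    refine exists_congr fun u => ?_
    rw [SetLike.mem_coe, Submodule.mem_annihilator, and_comm]
    rfl
  let O₁ : Set (PrimeSpectrum A) := W ∩ ⋃ (t : 𝔠) (i : ι),
    (PrimeSpectrum.basicOpen (s t i * b t i) : Set (PrimeSpectrum A))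
  let O₀ : Set (PrimeSpectrum A) := W ∩ ⋃ (t : 𝔠) (i : ι),
    (PrimeSpectrum.basicOpen (s t i * (s t i - b t i)) : Set (PrimeSpectrum A))
  refine ⟨O₀, O₁, hW.inter (isOpen_iUnion fun t => isOpen_iUnion fun i =>
    (PrimeSpectrum.basicOpen _).isOpen), hW.inter (isOpen_iUnion fun t => isOpen_iUnion fun i =>
    (PrimeSpectrum.basicOpen _).isOpen), ?_, ?_⟩
  · rw [Set.disjoint_left]
    rintro p ⟨hpW, hp0⟩ ⟨-, hp1⟩
    simp only [Set.mem_iUnion] at hp0 hp1
    obtain ⟨t, i, hp0⟩ := hp0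
    obtain ⟨t', i', hp1⟩ := hp1
    obtain ⟨u, hu, hu'⟩ := (hWmem p).1 hpW
    have e1 := hu' _ (hN1 t i)
    have e2 := hu' _ (hN2 t i t' i')
    have hp0' : s t i * (s t i - b t i) ∉ p.asIdeal := hp0
    have hp1' : s t' i' * b t' i' ∉ p.asIdeal := hp1
    -- `u * s t i * b t' i' * (s t i - b t i) = 0`
    have e3 : u * ((s t i * (s t i - b t i)) * b t' i') = 0 := by
      linear_combination (-(s t i - b t i)) * e2 - s t' i' * e1
    have hb1 : b t' i' ∉ p.asIdeal := fun h => hp1' (p.asIdeal.mul_mem_left _ h)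
    have h3 : u * ((s t i * (s t i - b t i)) * b t' i') ∈ p.asIdeal := by
      rw [e3]
      exact p.asIdeal.zero_mem
    rcases p.isPrime.mem_or_mem h3 with h | h
    · exact hu h
    · rcases p.isPrime.mem_or_mem h with h | h
      · exact hp0' h
      · exact hb1 h
  · intro p hfp i hip
    have hpW : p ∈ W := (hWmem p).2 (exists_ann p hfp i hip)
    obtain ⟨t, ht, htp⟩ : ∃ t ∈ 𝔠, t ∉ p.asIdeal := by
      by_contra hcon
      push Not at hcon
      have h3 : 𝔠 ⊔ Ideal.span {f} ≤ p.asIdeal :=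
        sup_le hcon ((Ideal.span_singleton_le_iff_mem _).2 hfp)
      obtain ⟨m, hm⟩ := hg i
      exact hip (p.isPrime.mem_of_pow_mem m (h3 hm))
    have hs : s ⟨t, ht⟩ i ∉ p.asIdeal := by
      intro h
      rcases p.isPrime.mem_or_mem h with h | h
      · rcases p.isPrime.mem_or_mem h with h | h
        · exact htp h
        · exact htp h
      · exact hip (p.isPrime.mem_of_pow_mem _ h)
    -- the point of the localization
    let R := Localization (PS g i)
    obtain ⟨q, hq⟩ : p ∈ Set.range (PrimeSpectrum.comap (algebraMap A R)) := by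
      have := PrimeSpectrum.localization_away_comap_range (Localization.Away (g i)) (g i)
      change p ∈ Set.range (PrimeSpectrum.comap (algebraMap A (Localization.Away (g i))))
      rw [this]
      exact hip
    have hmem : ∀ a : A, algebraMap A R a ∈ q.asIdeal ↔ a ∈ p.asIdeal := by
      intro a
      rw [← hq]
      rfl
    have hfq : algebraMap A R f ∈ q.asIdeal := (hmem f).2 hfp
    have hxq := hxZ 0 i q hfq
    rw [hq] at hxq
    obtain ⟨w, hw⟩ := hb' ⟨t, ht⟩ i 0 i
    rw [zero_add, pow_one] at hw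
    have hbq : b ⟨t, ht⟩ i ∈ p.asIdeal ↔ x 0 i ∈ q.asIdeal := by
      rw [← hmem, hw, Ideal.add_mem_iff_left _ (Ideal.mul_mem_right _ _ hfq)]
      constructor
      · intro h
        exact (q.isPrime.mem_or_mem h).resolve_left fun h' => hs ((hmem _).1 h')
      · exact fun h => Ideal.mul_mem_left _ _ h
    constructor
    · intro hp0
      have hx0 : x 0 i ∈ q.asIdeal := by
        by_contra hcon
        exact hd p hfp i hip hp0 (hxq.1 hcon)
      refine ⟨hpW, ?_⟩
      simp only [Set.mem_iUnion]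
      refine ⟨⟨t, ht⟩, i, ?_⟩
      change s ⟨t, ht⟩ i * (s ⟨t, ht⟩ i - b ⟨t, ht⟩ i) ∉ p.asIdeal
      intro h
      rcases p.isPrime.mem_or_mem h with h | h
      · exact hs h
      · refine hs ?_
        have := p.asIdeal.add_mem h (hbq.2 hx0)
        rwa [sub_add_cancel] at this
    · intro hp1
      refine ⟨hpW, ?_⟩
      simp only [Set.mem_iUnion]
      refine ⟨⟨t, ht⟩, i, ?_⟩
      change s ⟨t, ht⟩ i * b ⟨t, ht⟩ i ∉ p.asIdeal
      intro h
      rcases p.isPrime.mem_or_mem h with h | h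
      · exact hs h
      · exact hxq.2 hp1 (hbq.1 h)

end Main

end K155.FormIdem
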