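import Groth.Agent.Pi1.K155.Sep
import Groth.Agent.FormalA.GoodAll

/-!
# Decompositions of `V(f)` from pointwise algebraization

If the compatible families of sections of `B / f^(n+1) B` over `D(𝔞)` are algebraic near every point of
`V(f) ∖ V(𝔞)` (`GoodLoc.Good`) then decompositions of `V(fB) ∖ V(𝔞B)` are induced by disjoint opens of
`Spec B`.
-/

set_option autoImplicit false
universe u

namespace K155.GoodOpens

open Groth.Agent.FormalA.CechSub Groth.Agent.FormalA.CechLC Groth.Agent.FormalA.LocSub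
open Groth.Agent.Pi1C.FormTr Groth.Agent.Pi1C.FormKill Groth.Agent.Pi1C.FormCech
open Groth.Agent.FormalA.CompleteCx
open K155.FormIdem

section Core

variable {A : Type*} [CommRing A] {ι : Type*} {f : A} {g : ι → A}

/-- The construction of the opens. -/
theorem exists_opens_core [IsNoetherianRing A] {J : Type*} (x : ℕ → ∀ i, Localization (PS g i))
    (hxi : ∀ j i, ∃ w : Localization (PS g i), x j i * x j i - x j i = f ^ (j + 1) • w)
    (Z₀ Z₁ : Set (PrimeSpectrum A))
    (hxZ : ∀ j i (p : PrimeSpectrum (Localization (PS g i))),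
        algebraMap A (Localization (PS g i)) f ∈ p.asIdeal →
        (x j i ∉ p.asIdeal ↔ PrimeSpectrum.comap (algebraMap A (Localization (PS g i))) p ∈ Z₁))
    (s b : J → A)
    (hb : ∀ t j, ∃ w : C0 (PS g) A, ε (PS g) (b t) - s t • (x j : C0 (PS g) A) = f ^ (j + 1) • w)
    (hs : ∀ p : PrimeSpectrum A, f ∈ p.asIdeal → ∀ i, g i ∉ p.asIdeal → ∃ t, s t ∉ p.asIdeal)
    (hd : ∀ p : PrimeSpectrum A, f ∈ p.asIdeal → ∀ i, g i ∉ p.asIdeal →
      p ∈ Z₀ → p ∈ Z₁ → False) :
    ∃ O₀ O₁ : Set (PrimeSpectrum A), IsOpen O₀ ∧ IsOpen O₁ ∧ Disjoint O₀ O₁ ∧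
      ∀ p : PrimeSpectrum A, f ∈ p.asIdeal → ∀ i, g i ∉ p.asIdeal →
        ((p ∈ Z₀ → p ∈ O₀) ∧ (p ∈ Z₁ → p ∈ O₁)) := by
  have hb' : ∀ (t : J) (j : ℕ) (i' : ι), ∃ w : Localization (PS g i'),
      algebraMap A (Localization (PS g i')) (b t) =
        algebraMap A (Localization (PS g i')) (s t) * x j i' +
          algebraMap A (Localization (PS g i')) f ^ (j + 1) * w := by
    intro t j i'
    obtain ⟨w, hw⟩ := hb t j
    refine ⟨w i', ?_⟩
    have h2 : algebraMap A (Localization (PS g i')) (b t) - s t • x j i' =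
      f ^ (j + 1) • w i' := congr_fun hw i'
    rw [← map_pow, ← Algebra.smul_def, ← Algebra.smul_def, ← h2]
    abel
  have hN1 : ∀ t, b t * (b t - s t) ∈ nullIdeal f g := by
    intro t
    rw [mem_nullIdeal_iff]
    intro j i'
    obtain ⟨w, hw⟩ := hb' t j i'
    obtain ⟨v, hv⟩ := hxi j i'
    rw [Algebra.smul_def, map_pow] at hv
    refine ⟨(algebraMap A (Localization (PS g i')) (s t)) ^ 2 * v +
      2 * w * (algebraMap A (Localization (PS g i')) (s t)) * x j i' +
      algebraMap A (Localization (PS g i')) f ^ (j + 1) * w ^ 2 -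
      w * algebraMap A (Localization (PS g i')) (s t), ?_⟩
    rw [map_mul, map_sub, hw]
    linear_combination (algebraMap A (Localization (PS g i')) (s t)) ^ 2 * hv
  have hN2 : ∀ t t', s t' * b t - s t * b t' ∈ nullIdeal f g := by
    intro t t'
    rw [mem_nullIdeal_iff]
    intro j l
    obtain ⟨w, hw⟩ := hb' t j l
    obtain ⟨w', hw'⟩ := hb' t' j l
    refine ⟨algebraMap A (Localization (PS g l)) (s t') * w -
      algebraMap A (Localization (PS g l)) (s t) * w', ?_⟩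
    rw [map_sub, map_mul, map_mul, hw, hw']
    ring
  let W : Set (PrimeSpectrum A) := (PrimeSpectrum.zeroLocus ((nullIdeal f g).annihilator : Set A))ᶜ
  have hW : IsOpen W := (PrimeSpectrum.isClosed_zeroLocus _).isOpen_compl
  have hWmem : ∀ p : PrimeSpectrum A, p ∈ W ↔
      ∃ u : A, u ∉ p.asIdeal ∧ ∀ c ∈ nullIdeal f g, u * c = 0 := by
    intro p
    change ¬ ((nullIdeal f g).annihilator : Set A) ⊆ p.asIdeal ↔ _
    rw [Set.not_subset]
    refine exists_congr fun u => ?_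
    rw [SetLike.mem_coe, Submodule.mem_annihilator, and_comm]
    rfl
  let O₁ : Set (PrimeSpectrum A) := W ∩ ⋃ (t : J),
    (PrimeSpectrum.basicOpen (s t * b t) : Set (PrimeSpectrum A))
  let O₀ : Set (PrimeSpectrum A) := W ∩ ⋃ (t : J),
    (PrimeSpectrum.basicOpen (s t * (s t - b t)) : Set (PrimeSpectrum A))
  refine ⟨O₀, O₁, hW.inter (isOpen_iUnion fun t =>
    (PrimeSpectrum.basicOpen _).isOpen), hW.inter (isOpen_iUnion fun t =>
    (PrimeSpectrum.basicOpen _).isOpen), ?_, ?_⟩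
  · rw [Set.disjoint_left]
    rintro p ⟨hpW, hp0⟩ ⟨-, hp1⟩
    simp only [Set.mem_iUnion] at hp0 hp1
    obtain ⟨t, hp0⟩ := hp0
    obtain ⟨t', hp1⟩ := hp1
    obtain ⟨u, hu, hu'⟩ := (hWmem p).1 hpW
    have e1 := hu' _ (hN1 t)
    have e2 := hu' _ (hN2 t t')
    have hp0' : s t * (s t - b t) ∉ p.asIdeal := hp0
    have hp1' : s t' * b t' ∉ p.asIdeal := hp1
    have e3 : u * ((s t * (s t - b t)) * b t') = 0 := by
      linear_combination (-(s t - b t)) * e2 - s t' * e1
    have hb1 : b t' ∉ p.asIdeal := fun h => hp1' (p.asIdeal.mul_mem_left _ h)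
    have h3 : u * ((s t * (s t - b t)) * b t') ∈ p.asIdeal := by
      rw [e3]
      exact p.asIdeal.zero_mem
    rcases p.isPrime.mem_or_mem h3 with h | h
    · exact hu h
    · rcases p.isPrime.mem_or_mem h with h | h
      · exact hp0' h
      · exact hb1 h
  · intro p hfp i hip
    have hpW : p ∈ W := (hWmem p).2 (exists_ann p hfp i hip)
    obtain ⟨t, ht⟩ := hs p hfp i hip
    -- the point of the localization
    let R := Localization (PS g i)
    obtain ⟨q, hq⟩ : p ∈ Set.range (PrimeSpectrum.comap (algebraMap A R)) := by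
      have := PrimeSpectrum.localization_away_comap_range (Localization.Away (g i)) (g i)
      change p ∈ Set.range (PrimeSpectrum.comap (algebraMap A (Localization.Away (g i))))
      rw [this]
      exact hip
    have hmem : ∀ a : A, algebraMap A R a ∈ q.asIdeal ↔ a ∈ p.asIdeal := by
      intro a
      rw [← hq]
      rfl
    have hfq : algebraMap A R f ∈ q.asIdeal := (hmem f).2 hfp
    have hxq := hxZ 0 i q hfq
    rw [hq] at hxq
    obtain ⟨w, hw⟩ := hb' t 0 i
    rw [zero_add, pow_one] at hw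
    have hbq : b t ∈ p.asIdeal ↔ x 0 i ∈ q.asIdeal := by
      rw [← hmem, hw, Ideal.add_mem_iff_left _ (Ideal.mul_mem_right _ _ hfq)]
      constructor
      · intro h
        exact (q.isPrime.mem_or_mem h).resolve_left fun h' => ht ((hmem _).1 h')
      · exact fun h => Ideal.mul_mem_left _ _ h
    constructor
    · intro hp0
      have hx0 : x 0 i ∈ q.asIdeal := by
        by_contra hcon
        exact hd p hfp i hip hp0 (hxq.1 hcon)
      refine ⟨hpW, ?_⟩
      simp only [Set.mem_iUnion]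
      refine ⟨t, ?_⟩
      change s t * (s t - b t) ∉ p.asIdeal
      intro h
      rcases p.isPrime.mem_or_mem h with h | h
      · exact ht h
      · refine ht ?_
        have := p.asIdeal.add_mem h (hbq.2 hx0)
        rwa [sub_add_cancel] at this
    · intro hp1
      refine ⟨hpW, ?_⟩
      simp only [Set.mem_iUnion]
      refine ⟨t, ?_⟩
      change s t * b t ∉ p.asIdeal
      intro h
      rcases p.isPrime.mem_or_mem h with h | h
      · exact ht h
      · exact hxq.2 hp1 (hbq.1 h)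

end Core

section Cech

open Groth.Agent.FormalA.SecMod Groth.Agent.FormalA.NFam LocalizedModule

variable {A : Type u} [CommRing A] {ι : Type u} (g : ι → A) {N : Type u} [AddCommGroup N] [Module A N]

theorem PS_le {i : ι} {q : PrimeSpectrum A} (h : g i ∉ q.asIdeal) : PS g i ≤ q.asIdeal.primeCompl := by
  rintro _ ⟨k, rfl⟩ hk
  exact h (q.isPrime.mem_of_pow_mem _ hk)

/-- The germ of a cocycle is independent of the chart. -/
theorem germ_eq (z : C0 (PS g) N) (hz : d0 (PS g) z = 0) {i j : ι} {q : PrimeSpectrum A}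
    (hi : g i ∉ q.asIdeal) (hj : g j ∉ q.asIdeal) :
    Groth.Agent.FormalA.LocSub.res (PS_le g hi) (z i) = Groth.Agent.FormalA.LocSub.res (PS_le g hj) (z j) := by
  have h1 : PS g i ⊔ PS g j ≤ q.asIdeal.primeCompl := sup_le (PS_le g hi) (PS_le g hj)
  have h2 := congr_fun (congr_fun hz i) j
  rw [d0_apply, Pi.zero_apply, Pi.zero_apply, sub_eq_zero] at h2
  have h3 := congrArg (Groth.Agent.FormalA.LocSub.res h1) h2
  rw [res_res, res_res] at h3
  exact h3.symm

/-- The section attached to a Čech cocycle. -/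
noncomputable def secOf {V : Set (PrimeSpectrum A)} (hV : ∀ q ∈ V, ∃ i, g i ∉ q.asIdeal)
    (z : C0 (PS g) N) (hz : d0 (PS g) z = 0) : sec N V :=
  ⟨fun q => Groth.Agent.FormalA.LocSub.res (PS_le g (hV q.1 q.2).choose_spec) (z _), by
    intro p
    obtain ⟨i, hi⟩ := hV p.1 p.2
    obtain ⟨a, s, hs⟩ := exists_eq_mk (z i)
    obtain ⟨k, hk⟩ := s.2
    have hk' : g i ^ k = (s : A) := hk
    refine ⟨g i • a, g i ^ (k + 1), fun h => hi (p.1.isPrime.mem_of_pow_mem _ h), fun q hq => ?_⟩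
    have hiq : g i ∉ q.1.asIdeal := fun h => hq (Ideal.pow_mem_of_mem _ h _ (Nat.succ_pos _))
    change g i ^ (k + 1) • Groth.Agent.FormalA.LocSub.res (PS_le g (hV q.1 q.2).choose_spec) (z _) = _
    rw [germ_eq g z hz (hV q.1 q.2).choose_spec hiq, ← map_smul, hs, pow_succ', mul_smul, hk',
      mk_smul_self, map_smul, res_mkLinearMap, ← map_smul]⟩

theorem secOf_apply {V : Set (PrimeSpectrum A)} (hV : ∀ q ∈ V, ∃ i, g i ∉ q.asIdeal)
    (z : C0 (PS g) N) (hz : d0 (PS g) z = 0) (q : V) (i : ι) (hi : g i ∉ q.1.asIdeal) :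
    (secOf g hV z hz).1 q = Groth.Agent.FormalA.LocSub.res (PS_le g hi) (z i) :=
  germ_eq g z hz (hV q.1 q.2).choose_spec hi

/-- An element of a localization vanishing at all primes is zero. -/
theorem eq_zero_of_germs (i : ι) (z : LocalizedModule (PS g i) N)
    (h : ∀ (q : PrimeSpectrum A) (hi : g i ∉ q.asIdeal), Groth.Agent.FormalA.LocSub.res (PS_le g hi) z = 0) : z = 0 := by
  obtain ⟨a, s, rfl⟩ := exists_eq_mk z
  have h1 : g i ∈ (Ideal.torsionOf A N a).radical := by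
    rw [← Ideal.span_singleton_le_iff_mem, ← PrimeSpectrum.zeroLocus_subset_zeroLocus_iff]
    intro q hq
    by_contra hq'
    have hi : g i ∉ q.asIdeal := fun hh => hq' (by simpa [PrimeSpectrum.mem_zeroLocus] using hh)
    have h2 := h q hi
    rw [res_mk, mk_eq_zero_iff] at h2
    obtain ⟨c, hc, h3⟩ := h2
    exact hc (hq ((Ideal.mem_torsionOf_iff _ _).2 h3))
  obtain ⟨k, hk⟩ := h1
  rw [mk_eq_zero_iff]
  exact ⟨g i ^ k, ⟨k, rfl⟩, (Ideal.mem_torsionOf_iff _ _).1 hk⟩

end Cech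

section Main

open Groth.Agent.FormalA.SecMod Groth.Agent.FormalA.NFam LocalizedModule

variable {A : Type u} [CommRing A] {f : A} {ι : Type u} (g : ι → A)
  {B : Type u} [CommRing B] [Algebra A B]

theorem E0_smul (a : A) (x : C0 (PS g) B) :
    E0 (A' := B) g (a • x) = algebraMap A B a • E0 g x := by
  funext i
  exact E_smul _ _ _

theorem E0_sub (x y : C0 (PS g) B) : E0 (A' := B) g (x - y) = E0 g x - E0 g y := by
  funext i
  exact map_sub _ _ _

theorem E0_inj {x y : C0 (PS g) B} (h : E0 (A' := B) g x = E0 g y) : x = y := by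
  funext i
  exact (E_bijective (A' := B) (PS1 g i)).1 (congr_fun h i)

theorem E1_smul (a : A) (x : C1 (PS g) B) :
    E1 (A' := B) g (a • x) = algebraMap A B a • E1 g x := by
  funext i j
  exact E_smul _ _ _

theorem E1_inj' {x y : C1 (PS g) B} (h : E1 (A' := B) g x = E1 g y) : x = y := by
  funext i j
  exact (E_bijective (A' := B) (PS2 g i j)).1 (congr_fun (congr_fun h i) j)

/-- The kernel of `C0 B → C0 (B / f^(n+1))`. -/
theorem exists_of_map0_pr (n : ℕ) (x : C0 (PS g) B)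
    (h : map0 (PS g) (pr (Ideal.span {f}) B n) x = 0) : ∃ w, x = f ^ (n + 1) • w := by
  have key : ∀ i, ∃ w : LocalizedModule (PS g i) B, x i = f ^ (n + 1) • w := by
    intro i
    refine lmap_ker (pr (Ideal.span {f}) B n) (f ^ (n + 1)) ?_ (x i) (congr_fun h i)
    intro b hb
    rw [pr_eq_zero_iff, mem_span_pow_smul_top] at hb
    obtain ⟨y, hy⟩ := hb
    exact ⟨1, (PS g i).one_mem, y, by rw [one_smul, hy]⟩
  choose w hw using key
  exact ⟨w, funext hw⟩

theorem smul_Q (n : ℕ) (y : Q (Ideal.span {f}) B n) : f ^ (n + 1) • y = 0 := by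
  obtain ⟨b, rfl⟩ := pr_surjective (Ideal.span {f}) n y
  rw [← map_smul, pr_eq_zero_iff, mem_span_pow_smul_top]
  exact ⟨b, rfl⟩

theorem map0_pr_smul (n : ℕ) (x : C0 (PS g) B) :
    map0 (PS g) (pr (Ideal.span {f}) B n) (f ^ (n + 1) • x) = 0 := by
  rw [map_smul]
  funext i
  exact smul_eq_zero_all (f ^ (n + 1)) (smul_Q n)
    (map0 (PS g) (pr (Ideal.span {f}) B n) x i)

theorem map1_pr_smul (n : ℕ) (x : C1 (PS g) B) :
    map1 (PS g) (pr (Ideal.span {f}) B n) (f ^ (n + 1) • x) = 0 := by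
  rw [map_smul]
  funext i j
  exact smul_eq_zero_all (f ^ (n + 1)) (smul_Q n)
    (map1 (PS g) (pr (Ideal.span {f}) B n) x i j)

/-- **Decompositions from pointwise algebraization.** -/
theorem exists_opens_good [IsNoetherianRing A] [Finite ι] [Module.Finite A B] (𝔞 : Ideal A)
    (hg : ∀ q : PrimeSpectrum A, ¬ 𝔞 ≤ q.asIdeal ↔ ∃ i, g i ∉ q.asIdeal)
    (hgood : ∀ p : PrimeSpectrum A, Ideal.span {f} ≤ p.asIdeal → ¬ 𝔞 ≤ p.asIdeal →
      Groth.Agent.FormalA.GoodLoc.Good (Ideal.span {f}) 𝔞 p B)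
    (Z₀ Z₁ : Set (PrimeSpectrum B)) (h0 : IsClosed Z₀) (h1 : IsClosed Z₁)
    (hc : ∀ p : PrimeSpectrum B, algebraMap A B f ∈ p.asIdeal → ∀ i, gm B g i ∉ p.asIdeal →
      (p ∈ Z₀ ∨ p ∈ Z₁))
    (hd : ∀ p : PrimeSpectrum B, algebraMap A B f ∈ p.asIdeal → ∀ i, gm B g i ∉ p.asIdeal →
      p ∈ Z₀ → p ∈ Z₁ → False) :
    ∃ O₀ O₁ : Set (PrimeSpectrum B), IsOpen O₀ ∧ IsOpen O₁ ∧ Disjoint O₀ O₁ ∧
      ∀ p : PrimeSpectrum B, algebraMap A B f ∈ p.asIdeal → ∀ i, gm B g i ∉ p.asIdeal →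
        ((p ∈ Z₀ → p ∈ O₀) ∧ (p ∈ Z₁ → p ∈ O₁)) := by
  have hBN : IsNoetherianRing B := IsNoetherianRing.of_finite A B
  obtain ⟨x, hx, hxi, hxZ⟩ := exists_seq (f := algebraMap A B f) (g := gm B g) Z₀ Z₁ h0 h1 hc hd
  choose x' hx' using fun j => E0_surj (A' := B) g (x j)
  -- the family over `A`
  have hstep : ∀ j, ∃ w, x' (j + 1) - x' j = f ^ (j + 1) • w := by
    intro j
    obtain ⟨w, hw⟩ := hx.step j
    obtain ⟨w', rfl⟩ := E0_surj (A' := B) g w
    refine ⟨w', E0_inj g ?_⟩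
    rw [E0_sub, hx', hx', E0_smul, hw, map_pow]
  have hd0 : ∀ j, ∃ y, d0 (PS g) (x' j) = f ^ (j + 1) • y := by
    intro j
    obtain ⟨y, hy⟩ := hx.d j
    obtain ⟨y', rfl⟩ := E1_surj (A' := B) g y
    refine ⟨y', E1_inj' g ?_⟩
    rw [E1_d0, hx', hy, E1_smul, map_pow]
  let z : ∀ n, C0 (PS g) (Q (Ideal.span {f}) B n) := fun n =>
    map0 (PS g) (pr (Ideal.span {f}) B n) (x' n)
  have hz : ∀ n, d0 (PS g) (z n) = 0 := by
    intro n
    obtain ⟨y, hy⟩ := hd0 n
    change d0 (PS g) (map0 (PS g) (pr (Ideal.span {f}) B n) (x' n)) = 0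
    rw [← map1_d0, hy, map1_pr_smul]
  have hV : ∀ q ∈ D 𝔞, ∃ i, g i ∉ q.asIdeal := fun q hq => (hg q).1 hq
  let y : F (Ideal.span {f}) 𝔞 B := F.mk (fun n => secOf g hV (z n) (hz n)) (by
    intro n
    refine ext_sec fun q => ?_
    obtain ⟨i, hi⟩ := hV q.1 q.2
    rw [Groth.Agent.FormalA.SecMod.map_apply, secOf_apply g hV _ _ q i hi,
      secOf_apply g hV _ _ q i hi, ← res_lmap]
    congr 1
    obtain ⟨w, hw⟩ := hstep n
    have h2 : map0 (PS g) (tr (Ideal.span {f}) B (Nat.le_succ n)) (z (n + 1)) = z n := by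
      change map0 (PS g) (tr (Ideal.span {f}) B (Nat.le_succ n))
        (map0 (PS g) (pr (Ideal.span {f}) B (n + 1)) (x' (n + 1))) =
        map0 (PS g) (pr (Ideal.span {f}) B n) (x' n)
      rw [map0_comp]
      have e1 : tr (Ideal.span {f}) B (Nat.le_succ n) ∘ₗ pr (Ideal.span {f}) B (n + 1) =
          pr (Ideal.span {f}) B n := by
        ext b
        exact tr_pr (Ideal.span {f}) (Nat.le_succ n) b
      rw [e1, ← sub_eq_zero, ← map_sub, hw, map0_pr_smul]
    exact congr_fun h2 i)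
  -- pointwise algebraization
  let J : Type u := {p : PrimeSpectrum A // Ideal.span {f} ≤ p.asIdeal ∧ ¬ 𝔞 ≤ p.asIdeal}
  choose s hs m hm using fun p : J => hgood p.1 p.2.1 p.2.2 y
  have hb : ∀ (t : J) (j : ℕ), ∃ w : C0 (PS (gm B g)) B,
      ε (PS (gm B g)) (m t) - algebraMap A B (s t) • (x j : C0 (PS (gm B g)) B) =
        algebraMap A B f ^ (j + 1) • w := by
    intro t j
    have h2 : map0 (PS g) (pr (Ideal.span {f}) B j) (ε (PS g) (m t) - s t • x' j) = 0 := by
      rw [map_sub, map_smul, map0_ε]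
      funext i
      refine eq_zero_of_germs g i _ fun q hi => ?_
      have hq : q ∈ D 𝔞 := (hg q).2 ⟨i, hi⟩
      have h3 := congrFun (congrArg Subtype.val (congrArg (fun v => F.at v j) (hm t))) ⟨q, hq⟩
      have h4 : s t • (secOf g hV (z j) (hz j)).1 ⟨q, hq⟩ =
          mkLinearMap q.asIdeal.primeCompl _ (pr (Ideal.span {f}) B j (m t)) := h3
      rw [secOf_apply g hV _ _ ⟨q, hq⟩ i hi] at h4
      change Groth.Agent.FormalA.LocSub.res (PS_le g hi)
        (mkLinearMap (PS g i) _ (pr (Ideal.span {f}) B j (m t)) - s t • z j i) = 0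
      rw [map_sub, res_mkLinearMap, map_smul, ← h4, sub_self]
    obtain ⟨w, hw⟩ := exists_of_map0_pr g j _ h2
    refine ⟨E0 g w, ?_⟩
    have h5 := congrArg (E0 (A' := B) g) hw
    rw [E0_sub, E0_smul, E0_smul, E0_ε, hx', map_pow] at h5
    exact h5
  refine exists_opens_core x hxi Z₀ Z₁ hxZ (fun t : J => algebraMap A B (s t)) m hb ?_ hd
  intro p hfp i hip
  let p' : PrimeSpectrum A := PrimeSpectrum.comap (algebraMap A B) p
  have hp1 : Ideal.span {f} ≤ p'.asIdeal := by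
    rw [Ideal.span_singleton_le_iff_mem]
    exact hfp
  have hp2 : ¬ 𝔞 ≤ p'.asIdeal := (hg p').2 ⟨i, hip⟩
  exact ⟨⟨p', hp1, hp2⟩, hs ⟨p', hp1, hp2⟩⟩

end Main

end K155.GoodOpens
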