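import Groth.Agent.Pi1A.ClopenCrit

/-!
# Extension of morphisms of finite étale covers to neighbourhoods

`X ⟶ S₁ ⟶ S`, `Y, Z` finite étale over `S`, `φ : Y_X ⟶ Z_X`. If the graph of `φ` is induced by a clopen
of `(Y ×_S Z)_{S₁}` then `φ` extends over every `S₂ ⟶ S₁` avoiding a closed subset which does not meet
the image of `X`. Similarly for equality of morphisms.
-/

set_option autoImplicit false
universe u

open CategoryTheory CategoryTheory.Limits AlgebraicGeometry

namespace K155.GraphExt

attribute [local simp] pullback.lift_fst pullback.lift_snd pullback.lift_fst_assoc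
  pullback.lift_snd_assoc

variable {X S Y Z : Scheme.{u}} (f : X ⟶ S) (y : Y ⟶ S) (z : Z ⟶ S)

theorem graph_aux (φ : pullback y f ⟶ pullback z f)
    (hφ : φ ≫ pullback.snd z f = pullback.snd y f) :
    pullback.fst y f ≫ y = (φ ≫ pullback.fst z f) ≫ z := by
  rw [Category.assoc, pullback.condition, pullback.condition, ← hφ, Category.assoc]

/-- The graph of a morphism of base changes. -/
noncomputable def graph (φ : pullback y f ⟶ pullback z f)
    (hφ : φ ≫ pullback.snd z f = pullback.snd y f) :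
    pullback y f ⟶ pullback (pullback.fst y z ≫ y) f :=
  pullback.lift (pullback.lift (pullback.fst y f) (φ ≫ pullback.fst z f) (graph_aux f y z φ hφ))
      (pullback.snd y f) (by rw [pullback.lift_fst_assoc, pullback.condition])

/-- the projection to `Y_S₁` -/
noncomputable def proj (j : X ⟶ S) :
    pullback (pullback.fst y z ≫ y) j ⟶ pullback y j :=
  pullback.lift (pullback.fst _ _ ≫ pullback.fst y z) (pullback.snd _ _)
    (by simpa using pullback.condition)

theorem graph_proj (φ : pullback y f ⟶ pullback z f)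
    (hφ : φ ≫ pullback.snd z f = pullback.snd y f) :
    graph f y z φ hφ ≫ proj y z f = 𝟙 _ := by
  apply pullback.hom_ext <;> simp [graph, proj]

theorem proj_isPullback (j : X ⟶ S) :
    IsPullback (pullback.fst (pullback.fst y z ≫ y) j) (proj y z j) (pullback.fst y z)
      (pullback.fst y j) := by
  have h := IsPullback.of_hasPullback (pullback.fst y z ≫ y) j
  have h' : IsPullback (pullback.fst y j) (pullback.snd y j) y j :=
    IsPullback.of_hasPullback y j
  refine IsPullback.of_bot (v₂₁ := pullback.snd y j) (v₂₂ := y) (h₃₁ := j) ?_ ?_ h'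
  · simpa [proj] using h
  · simp [proj]

instance [IsFinite z] [Etale z] (j : X ⟶ S) : IsFinite (proj y z j) :=
  MorphismProperty.of_isPullback (P := @IsFinite) (proj_isPullback y z j) inferInstance

instance [IsFinite z] [Etale z] (j : X ⟶ S) : Etale (proj y z j) :=
  MorphismProperty.of_isPullback (P := @Etale) (proj_isPullback y z j) inferInstance

/-- base change maps -/
noncomputable def bc {S₁ : Scheme.{u}} (j₁ : S₁ ⟶ S) (f₁ : X ⟶ S₁) (h : f₁ ≫ j₁ = f) :
    pullback y f ⟶ pullback y j₁ :=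
  pullback.lift (pullback.fst y f) (pullback.snd y f ≫ f₁) (by
    rw [pullback.condition, Category.assoc, h])

theorem bc_isPullback {S₁ : Scheme.{u}} (j₁ : S₁ ⟶ S) (f₁ : X ⟶ S₁) (h : f₁ ≫ j₁ = f) :
    IsPullback (bc f y j₁ f₁ h) (pullback.snd y f) (pullback.snd y j₁) f₁ := by
  refine IsPullback.of_right (h₁₂ := pullback.fst y j₁) (h₂₂ := j₁) (v₁₃ := y) ?_ ?_
    (IsPullback.of_hasPullback y j₁)
  · rw [bc, pullback.lift_fst, h]
    exact IsPullback.of_hasPullback y f
  · rw [bc, pullback.lift_snd]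

theorem graph_isClopen (φ : pullback y f ⟶ pullback z f)
    (hφ : φ ≫ pullback.snd z f = pullback.snd y f) [IsFinite z] [Etale z] :
    IsClopen (Set.range (graph f y z φ hφ)) := by
  have hγE : Etale (graph f y z φ hφ) := by
    have : Etale (graph f y z φ hφ ≫ proj y z f) := by rw [graph_proj]; infer_instance
    exact Etale.of_comp (graph f y z φ hφ) (proj y z f)
  have hγC : IsClosedImmersion (graph f y z φ hφ) := by
    have : IsClosedImmersion (graph f y z φ hφ ≫ proj y z f) := by rw [graph_proj]; infer_instance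
    exact IsClosedImmersion.of_comp (graph f y z φ hφ) (proj y z f)
  have hγM : Mono (graph f y z φ hφ) := by
    have : Mono (graph f y z φ hφ ≫ proj y z f) := by rw [graph_proj]; infer_instance
    exact mono_of_mono (graph f y z φ hφ) (proj y z f)
  have hγO : IsOpenImmersion (graph f y z φ hφ) := IsOpenImmersion.of_flat_of_mono _
  exact ⟨(graph f y z φ hφ).isClosedEmbedding.isClosed_range,
    (graph f y z φ hφ).isOpenEmbedding.isOpen_range⟩

/-- **Extension of a morphism whose graph extends.** -/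
theorem exists_of_clopen [IsFinite y] [IsFinite z] [Etale z]
    {S₁ : Scheme.{u}} (j₁ : S₁ ⟶ S) (f₁ : X ⟶ S₁) (hf₁ : f₁ ≫ j₁ = f)
    (φ : pullback y f ⟶ pullback z f) (hφ : φ ≫ pullback.snd z f = pullback.snd y f)
    (C : Set ↥(pullback (pullback.fst y z ≫ y) j₁)) (hC : IsClopen C)
    (hCφ : ∀ w : ↥(pullback (pullback.fst y z ≫ y) f),
      bc f (pullback.fst y z ≫ y) j₁ f₁ hf₁ w ∈ C ↔ w ∈ Set.range (graph f y z φ hφ)) :
    ∃ K : Set S₁, IsClosed K ∧ (∀ x, f₁ x ∉ K) ∧
      ∀ (S₂ : Scheme.{u}) (j₂ : S₂ ⟶ S₁) (f₂ : X ⟶ S₂) (hf₂ : f₂ ≫ j₂ = f₁), (∀ s, j₂ s ∉ K) →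
        ∃ a : pullback y (j₂ ≫ j₁) ⟶ Z, a ≫ z = pullback.snd y (j₂ ≫ j₁) ≫ j₂ ≫ j₁ ∧
          bc f y (j₂ ≫ j₁) f₂ (by rw [← Category.assoc, hf₂, hf₁]) ≫ a = φ ≫ pullback.fst z f := by
  let γ := graph f y z φ hφ
  have hγr : γ ≫ proj y z f = 𝟙 _ := graph_proj f y z φ hφ
  let cT := bc f (pullback.fst y z ≫ y) j₁ f₁ hf₁
  let c := bc f y j₁ f₁ hf₁
  let r₁ := proj y z j₁
  have hr : IsPullback cT (proj y z f) r₁ c := by
    refine IsPullback.of_bot (v₂₁ := pullback.snd y f) (v₂₂ := pullback.snd y j₁) (h₃₁ := f₁) ?_ ?_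
      (bc_isPullback f y j₁ f₁ hf₁)
    · have e1 : proj y z f ≫ pullback.snd y f = pullback.snd _ _ := by simp [proj]
      have e2 : r₁ ≫ pullback.snd y j₁ = pullback.snd _ _ := by simp [r₁, proj]
      rw [e1, e2]
      exact bc_isPullback f (pullback.fst y z ≫ y) j₁ f₁ hf₁
    · apply pullback.hom_ext <;> simp [cT, c, r₁, proj, bc]
  let UO : (pullback (pullback.fst y z ≫ y) j₁).Opens := ⟨C, hC.isOpen⟩
  have hrange : Set.range UO.ι = C := by simp [UO]
  have hιC : IsClosedImmersion UO.ι := by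
    apply IsClosedImmersion.of_isPreimmersion
    rw [hrange]
    exact hC.isClosed
  let q : (UO : Scheme.{u}) ⟶ pullback y j₁ := UO.ι ≫ r₁
  let k : pullback y f ⟶ (UO : Scheme.{u}) :=
    IsOpenImmersion.lift UO.ι (γ ≫ cT) (by
      rw [hrange]
      rintro _ ⟨p, rfl⟩
      rw [Scheme.Hom.comp_apply]
      exact (hCφ _).2 ⟨p, rfl⟩)
  have hk : k ≫ UO.ι = γ ≫ cT := IsOpenImmersion.lift_fac _ _ _
  have hγC := graph_isClopen f y z φ hφ
  have hγI : IsOpenImmersion γ := by
    have hγE : Etale γ := by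
      have : Etale (γ ≫ proj y z f) := by rw [hγr]; infer_instance
      exact Etale.of_comp γ (proj y z f)
    have hγM : Mono γ := by
      have : Mono (γ ≫ proj y z f) := by rw [hγr]; infer_instance
      exact mono_of_mono γ (proj y z f)
    exact IsOpenImmersion.of_flat_of_mono γ
  have hsq1 : IsPullback k γ UO.ι cT := by
    apply IsOpenImmersion.isPullback
    · exact hk.symm
    · ext p
      simp only [Scheme.Opens.opensRange_ι, SetLike.mem_coe]
      exact hCφ p
  have hsq2 : IsPullback k (𝟙 _) q c := by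
    have := hsq1.paste_vert hr
    rwa [hγr] at this
  have hqfin : IsFinite q := inferInstance
  have hqet : Etale q := inferInstance
  have hrank : ∀ p : ↥(pullback y f), q.finrank (c p) = 1 := by
    intro p
    rw [← Scheme.Hom.finrank_of_isPullback _ _ _ _ hsq2 p]
    have := Scheme.Hom.finrank_eq_one_of_isIso (𝟙 (pullback y f))
    rw [this]
    rfl
  have hlc : IsLocallyConstant q.finrank := Scheme.Hom.isLocallyConstant_finrank q
  have hKc : IsClosed ((q.finrank ⁻¹' {1})ᶜ) := (hlc.isClopen_fiber 1).compl.isClosed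
  refine ⟨pullback.snd y j₁ '' (q.finrank ⁻¹' {1})ᶜ, (pullback.snd y j₁).isClosedMap _ hKc, ?_, ?_⟩
  · rintro x ⟨v, hv, hvx⟩
    obtain ⟨p, hp, -⟩ := Scheme.exists_preimage_of_isPullback (bc_isPullback f y j₁ f₁ hf₁) v x hvx
    refine hv ?_
    change q.finrank v = 1
    rw [← hp]
    exact hrank p
  · intro S₂ j₂ f₂ hf₂ hj₂
    let d : pullback y (j₂ ≫ j₁) ⟶ pullback y j₁ :=
      pullback.lift (pullback.fst _ _) (pullback.snd _ _ ≫ j₂) (by
        rw [pullback.condition, Category.assoc])
    let q₂ := pullback.snd q d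
    have hq₂ : q₂.finrank = 1 := by
      ext v
      have h1 := Scheme.Hom.finrank_of_isPullback _ _ _ _ (IsPullback.of_hasPullback q d) v
      rw [h1]
      by_contra hcon
      refine hj₂ (pullback.snd y (j₂ ≫ j₁) v) ⟨d v, hcon, ?_⟩
      have : d ≫ pullback.snd y j₁ = pullback.snd y (j₂ ≫ j₁) ≫ j₂ := by simp [d]
      rw [← Scheme.Hom.comp_apply, this, Scheme.Hom.comp_apply]
    have hqiso : IsIso q₂ := (Scheme.Hom.isIso_iff_finrank_eq q₂).mpr hq₂
    let g : (UO : Scheme.{u}) ⟶ Z := UO.ι ≫ pullback.fst _ _ ≫ pullback.snd y z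
    have hg : g ≫ z = q ≫ pullback.snd y j₁ ≫ j₁ := by
      have e2 : r₁ ≫ pullback.snd y j₁ = pullback.snd _ _ := by simp [r₁, proj]
      simp only [g, q, Category.assoc]
      rw [reassoc_of% e2, ← pullback.condition (f := y) (g := z)]
      congr 1
      exact pullback.condition
    refine ⟨inv q₂ ≫ pullback.fst q d ≫ g, ?_, ?_⟩
    · have hd : d ≫ pullback.snd y j₁ = pullback.snd y (j₂ ≫ j₁) ≫ j₂ := by simp [d]
      rw [Category.assoc, Category.assoc, hg, pullback.condition_assoc, IsIso.inv_hom_id_assoc,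
        reassoc_of% hd]
    · let e := bc f y (j₂ ≫ j₁) f₂ (by rw [← Category.assoc, hf₂, hf₁])
      have hed : e ≫ d = c := by
        apply pullback.hom_ext <;> simp [e, d, c, bc, hf₂]
      have hkq : k ≫ q = e ≫ d := by rw [hsq2.w, Category.id_comp, hed]
      have h3 : e ≫ inv q₂ = pullback.lift k e hkq := by
        rw [← cancel_mono q₂, Category.assoc, IsIso.inv_hom_id, Category.comp_id, pullback.lift_snd]
      have h4 : e ≫ inv q₂ ≫ pullback.fst q d ≫ g = k ≫ g := by
        rw [reassoc_of% h3, pullback.lift_fst_assoc]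
      rw [h4]
      change k ≫ UO.ι ≫ pullback.fst _ _ ≫ pullback.snd y z = _
      rw [reassoc_of% hk]
      simp [γ, cT, bc, graph]

/-- **Equality near the image of `X`.** -/
theorem exists_closed_of_eq [IsFinite y] [IsSeparated z] [LocallyOfFiniteType z]
    [FormallyUnramified z] (a b : Y ⟶ Z) (ha : a ≫ z = y) (hb : b ≫ z = y)
    (hab : pullback.fst y f ≫ a = pullback.fst y f ≫ b) :
    ∃ K : Set S, IsClosed K ∧ (∀ x, f x ∉ K) ∧ ∀ (S₂ : Scheme.{u}) (j₂ : S₂ ⟶ S), (∀ s, j₂ s ∉ K) →
      pullback.fst y j₂ ≫ a = pullback.fst y j₂ ≫ b := by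
  have hw : a ≫ z = b ≫ z := by rw [ha, hb]
  let l : Y ⟶ pullback z z := pullback.lift a b hw
  let D := pullback.fst l (pullback.diagonal z)
  have hD1 : IsOpenImmersion D := inferInstance
  have hcond : pullback.fst y f ≫ l = (pullback.fst y f ≫ a) ≫ pullback.diagonal z := by
    apply pullback.hom_ext
    · simp [l]
    · simp [l, hab]
  have hfac : pullback.lift (pullback.fst y f) (pullback.fst y f ≫ a) hcond ≫ D
      = pullback.fst y f := by
    simp [D]
  have hDa : D ≫ a = D ≫ b := by
    have e1 : D ≫ a = pullback.snd l (pullback.diagonal z) := by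
      have := congrArg (· ≫ pullback.fst z z) (pullback.condition (f := l)
        (g := pullback.diagonal z))
      simpa [l, D] using this
    have e2 : D ≫ b = pullback.snd l (pullback.diagonal z) := by
      have := congrArg (· ≫ pullback.snd z z) (pullback.condition (f := l)
        (g := pullback.diagonal z))
      simpa [l, D] using this
    rw [e1, e2]
  have hcl : IsClosed (Set.range D)ᶜ := D.isOpenEmbedding.isOpen_range.isClosed_compl
  refine ⟨y '' (Set.range D)ᶜ, y.isClosedMap _ hcl, ?_, ?_⟩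
  · rintro x ⟨v, hv, hvx⟩
    obtain ⟨p, hp, -⟩ := Scheme.exists_preimage_of_isPullback (IsPullback.of_hasPullback y f) v x hvx
    refine hv ⟨pullback.lift (pullback.fst y f) (pullback.fst y f ≫ a) hcond p, ?_⟩
    rw [← Scheme.Hom.comp_apply, hfac, hp]
  · intro S₂ j₂ hj₂
    have hr : Set.range (pullback.fst y j₂) ⊆ Set.range D := by
      rintro _ ⟨v, rfl⟩
      by_contra hcon
      refine hj₂ (pullback.snd y j₂ v) ⟨pullback.fst y j₂ v, hcon, ?_⟩
      rw [← Scheme.Hom.comp_apply, pullback.condition, Scheme.Hom.comp_apply]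
    rw [← IsOpenImmersion.lift_fac D (pullback.fst y j₂) hr, Category.assoc, Category.assoc, hDa]

end K155.GraphExt
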