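import Groth.Agent.Pi1.K155.InertSep
import Mathlib.RingTheory.DedekindDomain.Different
import Mathlib.RingTheory.Invariant.Galois
import Mathlib.FieldTheory.Minpoly.IsConjRoot
import Mathlib.FieldTheory.Minpoly.IsIntegrallyClosed

/-!
# The inertia field of a prime in a finite Galois extension

`A` normal with fraction field `K`, `F / K` finite Galois.

* `exists_aeval_eq`: `x` integral over `A` and fixed by the stabilizer of the integral element `θ`:
  `P'(θ) x ∈ A[θ]`, `P` the minimal polynomial of `θ`.
* `exists_theta`: `q` a prime of the integral closure of `A` in `F`: there is `θ` whose stabilizer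
  is the inertia group of `q` and `P'(θ) ∉ q`.
-/

set_option autoImplicit false

namespace K155.InertFin

open Polynomial

variable {A K F : Type*} [CommRing A] [IsDomain A] [IsIntegrallyClosed A] [Field K] [Field F]
  [Algebra A K] [IsFractionRing A K] [Algebra K F] [Algebra A F] [IsScalarTower A K F]
  [FiniteDimensional K F] [IsGalois K F]

/-- Elements fixed by the stabilizer of `θ` are in the order generated by `θ`, up to the value of
the derivative of the minimal polynomial. -/
theorem exists_aeval_eq {θ x : F} (hθ : IsIntegral A θ) (hx : IsIntegral A x)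
    (h : ∀ σ : Gal(F/K), σ θ = θ → σ x = x) :
    ∃ p : A[X], aeval θ (minpoly A θ).derivative * x = aeval θ p := by
  let E : IntermediateField K F := IntermediateField.adjoin K {θ}
  have hxE : x ∈ E := by
    have h1 : x ∈ IntermediateField.fixedField E.fixingSubgroup := by
      rw [IntermediateField.mem_fixedField_iff]
      intro σ hσ
      exact h σ (hσ ⟨θ, IntermediateField.mem_adjoin_simple_self K θ⟩)
    rwa [IsGalois.fixedField_fixingSubgroup] at h1
  have : IsScalarTower A E F := IsScalarTower.of_algebraMap_eq fun _ => rfl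
  let θ' : E := ⟨θ, IntermediateField.mem_adjoin_simple_self K θ⟩
  let x' : E := ⟨x, hxE⟩
  have hθ' : IsIntegral A θ' :=
    (isIntegral_algebraMap_iff (FaithfulSMul.algebraMap_injective E F)).mp hθ
  have hx' : IsIntegral A x' :=
    (isIntegral_algebraMap_iff (FaithfulSMul.algebraMap_injective E F)).mp hx
  have htop : Algebra.adjoin K {θ'} = ⊤ := by
    have := (IntermediateField.adjoin.powerBasis
      (Algebra.IsIntegral.isIntegral (R := K) θ)).adjoin_gen_eq_top
    rwa [IntermediateField.adjoin.powerBasis_gen] at this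
  have key := traceForm_dualSubmodule_adjoin A K htop hθ'
  have hmem : x' ∈ (Algebra.traceForm K E).dualSubmodule
      (Subalgebra.toSubmodule (Algebra.adjoin A {θ'})) := by
    intro y hy
    have hy' : IsIntegral A y := by
      have : Algebra.IsIntegral A (Algebra.adjoin A {θ'}) :=
        Algebra.IsIntegral.adjoin fun z hz => by
          rw [Set.mem_singleton_iff.mp hz]; exact hθ'
      exact (this.isIntegral ⟨y, hy⟩).map (Algebra.adjoin A {θ'}).val
    rw [Algebra.traceForm_apply, Submodule.mem_one]
    exact IsIntegrallyClosed.isIntegral_iff.mp (Algebra.isIntegral_trace (hx'.mul hy'))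
  rw [key] at hmem
  obtain ⟨y, hy, hyx⟩ := hmem
  have hy' : y ∈ Algebra.adjoin A {θ'} := hy
  rw [Algebra.adjoin_singleton_eq_range_aeval] at hy'
  obtain ⟨p, rfl⟩ := hy'
  have hd : aeval θ' (minpoly K θ').derivative ≠ 0 :=
    (Algebra.IsSeparable.isSeparable K θ').aeval_derivative_ne_zero (minpoly.aeval K θ')
  have hyx' : (aeval θ' (minpoly K θ').derivative)⁻¹ * aeval θ' p = x' := hyx
  have h2 : aeval θ' (minpoly K θ').derivative * x' = aeval θ' p := by
    rw [← hyx', mul_inv_cancel_left₀ hd]
  have h3 : minpoly K θ' = (minpoly A θ).map (algebraMap A K) := by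
    rw [minpoly.isIntegrallyClosed_eq_field_fractions' K hθ',
      ← minpoly.algebraMap_eq (FaithfulSMul.algebraMap_injective E F) θ']
    rfl
  rw [h3, derivative_map, aeval_map_algebraMap] at h2
  have h4 := congrArg (algebraMap E F) h2
  rw [map_mul, ← aeval_algebraMap_apply, ← aeval_algebraMap_apply] at h4
  exact ⟨p, h4⟩

/-- The minimal polynomial over the normal domain `A` has derivative with nonzero value modulo `q`
at `θ` if `θ` is moved modulo `q` by the elements outside its stabilizer. -/
theorem aeval_derivative_notMem (q : Ideal (integralClosure A F)) [q.IsPrime]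
    (θ : integralClosure A F)
    (h : ∀ σ : Gal(F/K), σ (θ : F) ≠ θ → ∀ c ∈ q, (c : F) ≠ σ (θ : F) - θ)
    (c : integralClosure A F) (hc : (c : F) = aeval (θ : F) (minpoly A (θ : F)).derivative) :
    c ∉ q := by
  classical
  let P : F[X] := (minpoly K (θ : F)).map (algebraMap K F)
  have hθ : IsIntegral A (θ : F) := θ.2
  have hPA : (minpoly A (θ : F)).map (algebraMap A F) = P := by
    change _ = (minpoly K (θ : F)).map (algebraMap K F)
    rw [minpoly.isIntegrallyClosed_eq_field_fractions' K hθ, Polynomial.map_map,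
      ← IsScalarTower.algebraMap_eq]
  have hsplit : P.Splits := Normal.splits inferInstance (θ : F)
  have hmonic : P.Monic := (minpoly.monic (Algebra.IsIntegral.isIntegral (θ : F))).map _
  have hroot : (θ : F) ∈ P.roots := by
    rw [mem_roots hmonic.ne_zero, IsRoot.def, eval_map_algebraMap, minpoly.aeval]
  have hsep : P.Separable :=
    Polynomial.Separable.map (Algebra.IsSeparable.isSeparable K (θ : F) : (minpoly K _).Separable)
  have hval : aeval (θ : F) (minpoly A (θ : F)).derivative =
      ((P.roots.erase (θ : F)).map ((θ : F) - ·)).prod := by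
    rw [← hsplit.eval_root_derivative hmonic hroot, ← hPA, derivative_map, eval_map_algebraMap]
  let N : Submonoid F :=
    { carrier := {x | ∃ b : integralClosure A F, b ∉ q ∧ (b : F) = x}
      one_mem' := ⟨1, fun h => Ideal.IsPrime.ne_top' ((Ideal.eq_top_iff_one q).mpr h), rfl⟩
      mul_mem' := by
        rintro x y ⟨b, hb, rfl⟩ ⟨b', hb', rfl⟩
        exact ⟨b * b', fun h => (Ideal.IsPrime.mem_or_mem ‹_› h).elim hb hb', rfl⟩ }
  have hN : ((P.roots.erase (θ : F)).map ((θ : F) - ·)).prod ∈ N := by
    refine Submonoid.multiset_prod_mem N _ fun z hz => ?_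
    obtain ⟨y, hy, rfl⟩ := Multiset.mem_map.mp hz
    have hyP : y ∈ P.roots := Multiset.mem_of_mem_erase hy
    have hyne : y ≠ θ := by
      intro hyθ
      have hnd := Polynomial.nodup_roots hsep
      rw [hyθ] at hy
      exact (hnd.notMem_erase) hy
    obtain ⟨σ, rfl⟩ : ∃ σ : Gal(F/K), σ (θ : F) = y := by
      rw [mem_roots hmonic.ne_zero, IsRoot.def, eval_map_algebraMap] at hyP
      exact (isConjRoot_of_aeval_eq_zero (Algebra.IsIntegral.isIntegral _) hyP).symm.exists_algEquiv
    have hσ : IsIntegral A (σ (θ : F)) := hθ.map (σ.toAlgHom.restrictScalars A)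
    refine ⟨θ - ⟨σ θ, hσ⟩, fun hmem => ?_, rfl⟩
    refine h σ hyne _ (q.neg_mem hmem) ?_
    rw [neg_sub]
    rfl
  rw [← hval, ← hc] at hN
  obtain ⟨b, hb, hbc⟩ := hN
  have : b = c := Subtype.ext hbc
  rwa [← this]

theorem exists_theta (q : Ideal (integralClosure A F)) [q.IsPrime] :
    ∃ θ : integralClosure A F,
      (∀ σ : Gal(F/K), (∀ b : integralClosure A F, ∃ c ∈ q, (c : F) = σ (b : F) - b) →
        σ (θ : F) = θ) ∧
      (∀ σ : Gal(F/K), σ (θ : F) = θ →
        ∀ b : integralClosure A F, ∃ c ∈ q, (c : F) = σ (b : F) - b) ∧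
      ∀ c : integralClosure A F,
        (c : F) = aeval (θ : F) (minpoly A (θ : F)).derivative → c ∉ q := by
  classical
  let B := integralClosure A F
  have hint : Algebra.IsAlgebraic K F := inferInstance
  let _ : MulSemiringAction Gal(F/K) B := IsIntegralClosure.MulSemiringAction A K F B
  have hsm : ∀ (σ : Gal(F/K)) (b : B), ((σ • b : B) : F) = σ (b : F) := fun σ b =>
    algebraMap_galRestrict_apply A σ b
  have : SMulCommClass Gal(F/K) A B := ⟨fun σ a b => by
    apply Subtype.ext
    rw [hsm]
    change σ (a • (b : F)) = a • ((σ • b : B) : F)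
    rw [hsm, ← algebraMap_smul K a, ← algebraMap_smul K a, map_smul]⟩
  let I : Subgroup Gal(F/K) := 
    { carrier := {σ | ∀ b : B, σ • b - b ∈ q}
      one_mem' := fun b => by rw [one_smul, sub_self]; exact q.zero_mem
      mul_mem' := fun {σ τ} hσ hτ b => by
        have h1 := q.add_mem (hσ (τ • b)) (hτ b)
        rwa [sub_add_sub_cancel, ← mul_smul] at h1
      inv_mem' := fun {σ} hσ b => by
        have h1 := q.neg_mem (hσ (σ⁻¹ • b))
        rwa [smul_inv_smul, neg_sub] at h1 }
  obtain ⟨θ, h1, h2⟩ := InertSep.exists_inertia_elt (A := A) q I (fun σ => Iff.rfl)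
  have hI : ∀ σ : Gal(F/K), σ ∈ I ↔
      ∀ b : integralClosure A F, ∃ c ∈ q, (c : F) = σ (b : F) - b := by
    intro σ
    refine forall_congr' fun b => ?_
    constructor
    · intro h
      exact ⟨_, h, by rw [← hsm]; rfl⟩
    · rintro ⟨c, hc, hcb⟩
      have : σ • b - b = c := Subtype.ext (by rw [hcb, ← hsm]; rfl)
      rwa [this]
  have h3 : ∀ σ : Gal(F/K), σ (θ : F) = θ → σ ∈ I := by
    intro σ hσ
    by_contra hcon
    apply h2 σ hcon
    have : σ • θ - θ = 0 := by
      rw [sub_eq_zero]
      exact Subtype.ext (by rw [hsm]; exact hσ)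
    rw [this]
    exact q.zero_mem
  refine ⟨θ, fun σ hσ => ?_, fun σ hσ => (hI σ).mp (h3 σ hσ), ?_⟩
  · rw [← hsm, h1 σ ((hI σ).mpr hσ)]
  · refine aeval_derivative_notMem (K := K) q θ fun σ hσ c hc hcθ => ?_
    have hσI : σ ∉ I := fun hmem => hσ (by rw [← hsm, h1 σ hmem])
    apply h2 σ hσI
    have : σ • θ - θ = c := Subtype.ext (by rw [hcθ, ← hsm]; rfl)
    rwa [this]

end K155.InertFin
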