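import Groth.Agent.Proet.IndEtale
import Mathlib.RingTheory.Etale.StandardEtale
import Mathlib.FieldTheory.Minpoly.IsIntegrallyClosed

/-!
# A criterion for a local ring to be ind-étale over a normal domain

`isIndEtale_of_theta`: `S` a domain over the normal domain `A`, `Q` a prime of `S`. If for every
finite subset `T` of `S` there is an integral element `θ` with `P'(θ) ∉ Q` and `P'(θ) T ⊆ A[θ]`,
`P` the minimal polynomial, then `S_Q` is ind-étale over `A`.
-/

set_option autoImplicit false
universe u

namespace K155.InertInd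

open Polynomial

theorem isIndEtale_of_theta {A S D : Type u} [CommRing A] [IsDomain A] [IsIntegrallyClosed A]
    [CommRing S] [IsDomain S] [Algebra A S] [Module.IsTorsionFree A S] [CommRing D] [Algebra S D]
    [Algebra A D] [IsScalarTower A S D] (Q : Ideal S) [Q.IsPrime] [IsLocalization.AtPrime D Q]
    (H : ∀ T : Finset S, ∃ θ : S, IsIntegral A θ ∧ aeval θ (minpoly A θ).derivative ∉ Q ∧
      ∀ x ∈ T, ∃ p : A[X], aeval θ (minpoly A θ).derivative * x = aeval θ p) :
    EtPBC.IsIndEtale A D := by
  classical
  have hSD : Function.Injective (algebraMap S D) :=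
    IsLocalization.injective D Q.primeCompl_le_nonZeroDivisors
  have hunit : ∀ x : S, x ∉ Q → IsUnit (algebraMap S D x) := fun x hx =>
    IsLocalization.map_units D (⟨x, hx⟩ : Q.primeCompl)
  rw [Groth.Agent.Proet.IndEtale.isIndEtale_iff_factor]
  intro Z _ _ hZ g
  obtain ⟨G, hG⟩ := (inferInstance : Algebra.FiniteType A Z).out
  obtain ⟨s, hs⟩ := IsLocalization.exist_integer_multiples_of_finset Q.primeCompl (G.image g)
  choose! a ha using hs
  obtain ⟨θ, hθ, hd, hT⟩ := H (insert (s : S) ((G.image g).image a))
  obtain ⟨r, hr⟩ := hT s (Finset.mem_insert_self _ _)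
  set d : S := aeval θ (minpoly A θ).derivative with hdd
  let P : StandardEtalePair A :=
    { f := minpoly A θ
      monic_f := minpoly.monic hθ
      g := (minpoly A θ).derivative * r
      cond := ⟨r, 0, 1, by rw [mul_zero, add_zero, pow_one]⟩ }
  let θD : D := algebraMap S D θ
  have hev : ∀ p : A[X], aeval θD p = algebraMap S D (aeval θ p) := fun p =>
    aeval_algebraMap_apply D θ p
  have hmap : P.HasMap θD := by
    refine ⟨?_, ?_⟩
    · rw [hev, show P.f = minpoly A θ from rfl, minpoly.aeval, map_zero]
    · rw [hev]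
      refine hunit _ ?_
      change aeval θ ((minpoly A θ).derivative * r) ∉ Q
      rw [map_mul, ← hr, ← hdd]
      intro h
      rcases Ideal.IsPrime.mem_or_mem ‹_› h with h | h
      · exact hd h
      · rcases Ideal.IsPrime.mem_or_mem ‹_› h with h | h
        · exact hd h
        · exact s.2 h
  let v : P.Ring →ₐ[A] D := P.lift θD hmap
  let Pr : StandardEtalePresentation A P.Ring :=
    ⟨P, P.X, P.hasMap_X, by simpa [StandardEtalePair.lift_X_left] using Function.bijective_id⟩
  have hvp : ∀ p : A[X], v (aeval P.X p) = algebraMap S D (aeval θ p) := by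
    intro p
    rw [← aeval_algHom_apply, ← hev]
    congr 1
    rw [StandardEtalePair.lift_X]
  have hgu : IsUnit (aeval P.X P.g) := P.hasMap_X.2
  have hv : Function.Injective v := by
    rw [injective_iff_map_eq_zero]
    intro w hw
    obtain ⟨p, n, hp⟩ := Pr.exists_mul_aeval_x_g_pow_eq_aeval_x w
    have hp' : w * (aeval P.X P.g) ^ n = aeval P.X p := hp
    have h1 : algebraMap S D (aeval θ p) = 0 := by
      rw [← hvp, ← hp', map_mul, hw, zero_mul]
    have h2 : aeval θ p = 0 := hSD (by rw [h1, map_zero])
    obtain ⟨c, hc⟩ := minpoly.isIntegrallyClosed_dvd hθ h2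
    have h3 : aeval P.X p = 0 := by
      rw [hc, map_mul, show aeval P.X (minpoly A θ) = 0 from P.hasMap_X.1, zero_mul]
    rw [h3] at hp'
    exact (hgu.pow n).mul_left_eq_zero.mp hp'
  -- the generators are in the range of `v`
  have hrg : ∀ z ∈ G, g z ∈ v.range := by
    intro z hz
    have hz' : g z ∈ G.image g := Finset.mem_image_of_mem _ hz
    obtain ⟨p, hp⟩ := hT (a (g z)) (Finset.mem_insert_of_mem (Finset.mem_image_of_mem _ hz'))
    have hra : algebraMap S D (a (g z)) = algebraMap S D s * g z := by
      rw [ha _ hz', ← Algebra.smul_def]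
    have hru : IsUnit (aeval P.X r) := by
      have h1 : IsUnit (aeval P.X (minpoly A θ).derivative * aeval P.X r) := by
        rw [← map_mul]
        exact hgu
      exact isUnit_of_mul_isUnit_right h1
    obtain ⟨c, hc⟩ := hru.exists_right_inv
    refine ⟨aeval P.X p * c, ?_⟩
    have h2 : algebraMap S D (aeval θ r) * v c = 1 := by
      rw [← hvp, ← map_mul, hc, map_one]
    change v _ = g z
    rw [map_mul, hvp, ← hp, map_mul, hra]
    have h3 : algebraMap S D d * algebraMap S D s * v c = 1 := by
      rw [← map_mul, hr, h2]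
    linear_combination (g z) * h3
  have hrange : g.range ≤ v.range := by
    rw [← Algebra.map_top, ← hG, AlgHom.map_adjoin, Algebra.adjoin_le_iff]
    rintro _ ⟨z, hz, rfl⟩
    exact hrg z hz
  let e := AlgEquiv.ofInjective v hv
  refine ⟨P.Ring, inferInstance, inferInstance,
    e.symm.toAlgHom.comp (g.codRestrict v.range fun z => hrange ⟨z, rfl⟩), v, inferInstance, ?_⟩
  ext z
  change v (e.symm _) = g z
  have h := e.apply_symm_apply (⟨g z, hrange ⟨z, rfl⟩⟩ : v.range)
  have h' := congrArg Subtype.val h
  exact h'

end K155.InertInd
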