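import Groth.Agent.Pi1.K155.InertFin
import Mathlib.FieldTheory.Galois.Profinite

/-!
# The inertia field of a prime in an infinite Galois extension

`A` normal with fraction field `K`, `L / K` Galois, `q` a prime of the integral closure `B` of `A`
in `L`, `I` the inertia group. `exists_theta`: for finitely many integral elements `x` fixed by `I`
there is an integral element `θ` fixed by `I` with `P'(θ) ∉ q` and `P'(θ) x ∈ A[θ]`, `P` the
minimal polynomial of `θ`.
-/

set_option autoImplicit false

namespace K155.InertInf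

open Polynomial

variable {A K L : Type*} [CommRing A] [IsDomain A] [IsIntegrallyClosed A] [Field K] [Field L]
  [Algebra A K] [IsFractionRing A K] [Algebra K L] [Algebra A L] [IsScalarTower A K L]
  [IsGalois K L]

theorem isOpen_apply_mem (b : L) (S : Set L) : IsOpen {σ : Gal(L/K) | σ b ∈ S} := by
  have h : {σ : Gal(L/K) | σ b ∈ S} = ⋃ σ₀ ∈ {σ : Gal(L/K) | σ b ∈ S},
      (fun σ => σ₀⁻¹ * σ) ⁻¹' (MulAction.stabilizer Gal(L/K) b : Set Gal(L/K)) := by
    ext σ
    simp only [Set.mem_iUnion, Set.mem_preimage, SetLike.mem_coe, MulAction.mem_stabilizer_iff,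
      exists_prop]
    constructor
    · intro hσ
      exact ⟨σ, hσ, by rw [inv_mul_cancel, one_smul]⟩
    · rintro ⟨σ₀, h₀, h⟩
      rw [mul_smul, inv_smul_eq_iff] at h
      change σ b ∈ S
      rw [show σ b = σ₀ b from h]
      exact h₀
  rw [h]
  exact isOpen_biUnion fun σ₀ _ => (stabilizer_isOpen_of_isIntegral b).preimage
    (continuous_const_mul _)

theorem isClosed_apply_mem (b : L) (S : Set L) : IsClosed {σ : Gal(L/K) | σ b ∈ S} := by
  rw [← isOpen_compl_iff]
  exact isOpen_apply_mem b Sᶜ

omit [IsDomain A] [IsIntegrallyClosed A] [Algebra A K] [IsFractionRing A K]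
  [IsScalarTower A K L] in
/-- Elements fixed by the inertia group are fixed by the inertia at some finite level. -/
theorem exists_level (q : Ideal (integralClosure A L)) (T : Set L) (hT : T.Finite)
    (h : ∀ σ : Gal(L/K), (∀ b : integralClosure A L, ∃ c ∈ q, (c : L) = σ b - b) →
      ∀ x ∈ T, σ x = x) :
    ∃ F : FiniteGaloisIntermediateField K L, T ⊆ (F : IntermediateField K L) ∧
      ∀ σ : Gal(L/K), (∀ b : integralClosure A L, (b : L) ∈ (F : IntermediateField K L) →
        ∃ c ∈ q, (c : L) = σ b - b) → ∀ x ∈ T, σ x = x := by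
  by_contra hcon
  push Not at hcon
  have := hT.to_subtype
  let C : FiniteGaloisIntermediateField K L → Set Gal(L/K) := fun F =>
    {σ | (∀ b : integralClosure A L, (b : L) ∈ ((F ⊔ FiniteGaloisIntermediateField.adjoin K T :
        FiniteGaloisIntermediateField K L) : IntermediateField K L) →
      ∃ c ∈ q, (c : L) = σ b - b) ∧ ∃ x ∈ T, σ x ≠ x}
  have hanti : ∀ F F', F ≤ F' → C F' ⊆ C F := by
    intro F F' hF σ hσ
    refine ⟨fun b hb => hσ.1 b ?_, hσ.2⟩
    exact (sup_le_sup_right hF _ : F ⊔ FiniteGaloisIntermediateField.adjoin K T ≤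
      F' ⊔ FiniteGaloisIntermediateField.adjoin K T) hb
  have hclosed : ∀ F, IsClosed (C F) := by
    intro F
    have h1 : C F = (⋂ b : integralClosure A L, ⋂ (_ : (b : L) ∈
        ((F ⊔ FiniteGaloisIntermediateField.adjoin K T :
        FiniteGaloisIntermediateField K L) : IntermediateField K L)),
        {σ : Gal(L/K) | σ b ∈ {y : L | ∃ c ∈ q, (c : L) = y - b}}) ∩
        ⋃ x ∈ T, {σ : Gal(L/K) | σ x ∈ ({x} : Set L)ᶜ} := by
      ext σ
      simp only [Set.mem_inter_iff, Set.mem_iInter, Set.mem_iUnion, exists_prop]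
      rfl
    rw [h1]
    exact (isClosed_iInter fun b => isClosed_iInter fun _ => isClosed_apply_mem _ _).inter
      (hT.isClosed_biUnion fun x _ => isClosed_apply_mem _ _)
  have hne : ∀ F, (C F).Nonempty := by
    intro F
    obtain ⟨σ, h1, x, h2, h3⟩ := hcon (F ⊔ FiniteGaloisIntermediateField.adjoin K T) (by
      have h4 : T ⊆ (FiniteGaloisIntermediateField.adjoin K T : IntermediateField K L) :=
        FiniteGaloisIntermediateField.subset_adjoin K T
      intro x hx
      exact (le_sup_right : FiniteGaloisIntermediateField.adjoin K T ≤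
        F ⊔ FiniteGaloisIntermediateField.adjoin K T) (h4 hx))
    exact ⟨σ, h1, x, h2, h3⟩
  obtain ⟨σ, hσ⟩ := IsCompact.nonempty_iInter_of_directed_nonempty_isCompact_isClosed C
    (fun F F' => ⟨F ⊔ F', hanti _ _ le_sup_left, hanti _ _ le_sup_right⟩) hne
    (fun F => (hclosed F).isCompact) hclosed
  rw [Set.mem_iInter] at hσ
  obtain ⟨x, hx, hσx⟩ := (hσ ⊥).2
  refine hσx (h σ (fun b => ?_) x hx)
  refine (hσ (FiniteGaloisIntermediateField.adjoin K {(b : L)})).1 b ?_
  have h1 : (b : L) ∈ (FiniteGaloisIntermediateField.adjoin K {(b : L)} : IntermediateField K L) :=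
    FiniteGaloisIntermediateField.subset_adjoin K {(b : L)} (Set.mem_singleton _)
  exact (le_sup_left : FiniteGaloisIntermediateField.adjoin K {(b : L)} ≤
    FiniteGaloisIntermediateField.adjoin K {(b : L)} ⊔
      FiniteGaloisIntermediateField.adjoin K T) h1

/-- The element `θ` attached to finitely many elements of the inertia subring. -/
theorem exists_theta (q : Ideal (integralClosure A L)) [q.IsPrime] (T : Set L) (hT : T.Finite)
    (hTi : ∀ x ∈ T, IsIntegral A x)
    (h : ∀ σ : Gal(L/K), (∀ b : integralClosure A L, ∃ c ∈ q, (c : L) = σ b - b) →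
      ∀ x ∈ T, σ x = x) :
    ∃ θ : L, IsIntegral A θ ∧
      (∀ σ : Gal(L/K), (∀ b : integralClosure A L, ∃ c ∈ q, (c : L) = σ b - b) → σ θ = θ) ∧
      (∀ c : integralClosure A L, (c : L) = aeval θ (minpoly A θ).derivative → c ∉ q) ∧
      ∀ x ∈ T, ∃ p : A[X], aeval θ (minpoly A θ).derivative * x = aeval θ p := by
  obtain ⟨F, hTF, hF⟩ := exists_level q T hT h
  let E : IntermediateField K L := F
  have hEf : FiniteDimensional K E := inferInstanceAs (FiniteDimensional K F)
  have hEg : IsGalois K E := inferInstanceAs (IsGalois K F)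
  have hst : IsScalarTower A E L := IsScalarTower.of_algebraMap_eq fun _ => rfl
  let i : integralClosure A E →ₐ[A] integralClosure A L :=
    (IsScalarTower.toAlgHom A E L).mapIntegralClosure
  have hi : ∀ b, ((i b : integralClosure A L) : L) = algebraMap E L b := fun b => rfl
  let qE : Ideal (integralClosure A E) := q.comap i
  obtain ⟨θ, h1, h2, h3⟩ := InertFin.exists_theta (K := K) qE
  have hinj : Function.Injective (algebraMap E L) := FaithfulSMul.algebraMap_injective E L
  have hθ : IsIntegral A ((θ : E) : L) := (i θ).2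
  have hmin : minpoly A ((θ : E) : L) = minpoly A (θ : E) :=
    minpoly.algebraMap_eq hinj (θ : E)
  have hder : ∀ p : A[X], aeval ((θ : E) : L) p = algebraMap E L (aeval (θ : E) p) := fun p =>
    aeval_algebraMap_apply L (θ : E) p
  have hnorm : ∀ (σ : Gal(L/K)) (x : E), (σ.restrictNormal E x : L) = σ x := fun σ x =>
    σ.restrictNormal_commutes E x
  -- transfer of the inertia condition to the finite level
  have hdown : ∀ σ : Gal(L/K),
      (∀ b : integralClosure A L, (b : L) ∈ E → ∃ c ∈ q, (c : L) = σ b - b) ↔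
      (∀ b : integralClosure A E, ∃ c ∈ qE, (c : E) = σ.restrictNormal E (b : E) - b) := by
    intro σ
    constructor
    · intro hσ b
      obtain ⟨c, hc, hcb⟩ := hσ (i b) (b : E).2
      have hcE : (c : L) ∈ E := by
        rw [hcb, hi]
        have h4 : σ (algebraMap E L b) = ((σ.restrictNormal E (b : E) : E) : L) :=
          (hnorm σ b).symm
        rw [h4]
        exact E.sub_mem (SetLike.coe_mem _) (SetLike.coe_mem _)
      have hci : IsIntegral A (⟨c, hcE⟩ : E) := (isIntegral_algebraMap_iff hinj).mp c.2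
      refine ⟨⟨⟨c, hcE⟩, hci⟩, ?_, ?_⟩
      · have h5 : i ⟨⟨c, hcE⟩, hci⟩ = c := Subtype.ext rfl
        change i _ ∈ q
        rw [h5]
        exact hc
      · apply Subtype.ext
        change (c : L) = ((σ.restrictNormal E (b : E) : E) : L) - _
        rw [hcb, hnorm]
        rfl
    · intro hσ b hb
      have hbi : IsIntegral A (⟨b, hb⟩ : E) := (isIntegral_algebraMap_iff hinj).mp b.2
      obtain ⟨c, hc, hcb⟩ := hσ ⟨⟨b, hb⟩, hbi⟩
      refine ⟨i c, hc, ?_⟩
      rw [hi, hcb, map_sub]
      change ((σ.restrictNormal E (⟨b, hb⟩ : E) : E) : L) - _ = _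
      rw [hnorm]
      rfl
  refine ⟨(θ : E), hθ, ?_, ?_, ?_⟩
  · intro σ hσ
    have h4 := h1 (σ.restrictNormal E) ((hdown σ).mp fun b _ => hσ b)
    have h5 := hnorm σ (θ : E)
    rw [h4] at h5
    exact h5.symm
  · intro c hc hcq
    rw [hmin, hder] at hc
    have hci : IsIntegral A (aeval (θ : E) (minpoly A (θ : E)).derivative) := by
      refine (isIntegral_algebraMap_iff hinj).mp ?_
      rw [← hc]
      exact c.2
    refine h3 ⟨_, hci⟩ rfl ?_
    change i _ ∈ q
    have h5 : i ⟨_, hci⟩ = c := Subtype.ext hc.symm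
    rw [h5]
    exact hcq
  · intro x hx
    have hxE : x ∈ E := hTF hx
    have hxi : IsIntegral A (⟨x, hxE⟩ : E) := (isIntegral_algebraMap_iff hinj).mp (hTi x hx)
    obtain ⟨p, hp⟩ := InertFin.exists_aeval_eq (K := K) θ.2 hxi (by
      intro τ hτ
      obtain ⟨σ, rfl⟩ := AlgEquiv.restrictNormalHom_surjective (F := K) (K₁ := E) L τ
      have h4 := h2 _ hτ
      have h5 := hF σ ((hdown σ).mpr h4) x hx
      apply Subtype.ext
      have h6 := hnorm σ (⟨x, hxE⟩ : E)
      exact h6.trans h5)
    refine ⟨p, ?_⟩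
    rw [hmin, hder, hder, ← hp, map_mul]
    rfl

end K155.InertInf
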