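import Mathlib.RingTheory.IntegralClosure.IsIntegral.Basic
import Mathlib.RingTheory.Invariant.Basic
import Mathlib.RingTheory.Adjoin.FG
import Mathlib.RingTheory.IntegralDomain
import Mathlib.RingTheory.Polynomial.Basic
import Mathlib.Algebra.Polynomial.GroupRingAction

/-!
# An element with prescribed inertia

* `exists_forall_ne`: finitely many ring maps `φ i : S → Ω` into a domain, all different from `φ₀`
  and agreeing with it on `A`, `S` integral over `A`: some `s : S` satisfies `φ i s ≠ φ₀ s` for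
  all `i` (a form of the primitive element theorem).
* `exists_inertia_elt`: `G` a finite group acting on `B`, `q` a prime of `B`: there is `θ : B`
  fixed by the inertia group of `q` such that `σ • θ - θ ∉ q` for `σ` outside the inertia group.
-/

set_option autoImplicit false

namespace K155.InertSep

open Polynomial

section Sep

variable {A S Ω : Type*} [CommRing A] [CommRing S] [Algebra A S] [CommRing Ω] [IsDomain Ω]

omit [IsDomain Ω] in
/-- The image of a finitely generated submodule is finite if the image of the base is finite. -/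
theorem finite_image (φ : S →+* Ω) (hT : (Set.range fun a => φ (algebraMap A S a)).Finite)
    (M : Submodule A S) (hM : M.FG) : (φ '' (M : Set S)).Finite := by
  obtain ⟨F, rfl⟩ := hM
  have : Finite (Set.range fun a => φ (algebraMap A S a)) := hT
  let Φ : (F → (Set.range fun a => φ (algebraMap A S a))) → Ω :=
    fun c => ∑ f : F, (c f : Ω) * φ f
  refine (Set.finite_range Φ).subset ?_
  rintro _ ⟨x, hx, rfl⟩
  obtain ⟨c, hc⟩ := (Submodule.mem_span_finset'.mp hx)
  refine ⟨fun f => ⟨φ (algebraMap A S (c f)), c f, rfl⟩, ?_⟩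
  rw [← hc, map_sum]
  refine Finset.sum_congr rfl fun f _ => ?_
  rw [Algebra.smul_def, map_mul]

theorem pow_eq_one [Algebra.IsIntegral A S] (φ : S →+* Ω)
    (hT : (Set.range fun a => φ (algebraMap A S a)).Finite) (x : S) (hx : φ x ≠ 0) :
    ∃ n : ℕ, 0 < n ∧ φ x ^ n = 1 := by
  have hfg : (Subalgebra.toSubmodule (Algebra.adjoin A {x})).FG :=
    (Algebra.IsIntegral.isIntegral x).fg_adjoin_singleton
  have hfin := finite_image φ hT _ hfg
  have : ¬ Function.Injective (fun n : ℕ => φ x ^ n) := by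
    intro hinj
    refine Set.infinite_range_of_injective hinj (hfin.subset ?_)
    rintro _ ⟨n, rfl⟩
    have hxm : x ^ n ∈ Algebra.adjoin A {x} :=
      Subalgebra.pow_mem _ (Algebra.subset_adjoin (Set.mem_singleton x)) n
    exact ⟨x ^ n, hxm, map_pow φ x n⟩
  rw [Function.not_injective_iff] at this
  obtain ⟨a, b, hab, hne⟩ := this
  wlog hlt : a < b generalizing a b
  · exact this b a hab.symm hne.symm (lt_of_le_of_ne (not_lt.mp hlt) hne.symm)
  refine ⟨b - a, Nat.sub_pos_of_lt hlt, ?_⟩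
  have h1 : φ x ^ a * φ x ^ (b - a) = φ x ^ a * 1 := by
    rw [← pow_add, Nat.add_sub_cancel' hlt.le, mul_one]
    exact hab.symm
  exact mul_left_cancel₀ (pow_ne_zero _ hx) h1

variable {ι : Type*} [Finite ι] (φ₀ : S →+* Ω) (φ : ι → S →+* Ω)

theorem sep_infinite (hφ : ∀ i a, φ i (algebraMap A S a) = φ₀ (algebraMap A S a))
    (hne : ∀ i, φ i ≠ φ₀) (hT : (Set.range fun a => φ₀ (algebraMap A S a)).Infinite) :
    ∃ s, ∀ i, φ i s ≠ φ₀ s := by
  classical
  have := Fintype.ofFinite ι
  suffices H : ∀ F : Finset ι, ∃ s, ∀ i ∈ F, φ i s ≠ φ₀ s by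
    obtain ⟨s, hs⟩ := H Finset.univ
    exact ⟨s, fun i => hs i (Finset.mem_univ i)⟩
  intro F
  induction F using Finset.induction_on with
  | empty => exact ⟨0, fun i hi => absurd hi (Finset.notMem_empty i)⟩
  | insert i₀ F hi₀ ih =>
    obtain ⟨s, hs⟩ := ih
    by_cases h0 : φ i₀ s ≠ φ₀ s
    · exact ⟨s, fun i hi => (Finset.mem_insert.mp hi).elim (fun h => h ▸ h0) (hs i)⟩
    rw [not_not] at h0
    obtain ⟨t, ht⟩ : ∃ t, φ i₀ t ≠ φ₀ t := by
      by_contra hcon
      push Not at hcon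
      exact hne i₀ (RingHom.ext hcon)
    have hbad : (⋃ i ∈ insert i₀ F, {a : Ω | φ i s - φ₀ s + a * (φ i t - φ₀ t) = 0}).Finite := by
      refine (Finset.finite_toSet _).biUnion fun i hi => Set.Subsingleton.finite ?_
      intro a ha b hb
      simp only [Set.mem_ofPred_eq] at ha hb
      have hti : φ i t - φ₀ t ≠ 0 := by
        intro h
        rcases Finset.mem_insert.mp hi with rfl | hi
        · exact ht (sub_eq_zero.mp h)
        · rw [h, mul_zero, add_zero] at ha
          exact hs i hi (sub_eq_zero.mp ha)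
      have : (a - b) * (φ i t - φ₀ t) = 0 := by linear_combination ha - hb
      exact sub_eq_zero.mp ((mul_eq_zero.mp this).resolve_right hti)
    obtain ⟨_, ⟨a, rfl⟩, ha⟩ := hT.exists_notMem_finite hbad
    refine ⟨s + algebraMap A S a * t, fun i hi h => ha ?_⟩
    simp only [Set.mem_iUnion]
    refine ⟨i, hi, ?_⟩
    rw [map_add, map_add, map_mul, map_mul, hφ i a] at h
    simp only [Set.mem_ofPred_eq]
    linear_combination h

theorem sep_finite [Algebra.IsIntegral A S]
    (hφ : ∀ i a, φ i (algebraMap A S a) = φ₀ (algebraMap A S a))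
    (hne : ∀ i, φ i ≠ φ₀) (hT : (Set.range fun a => φ₀ (algebraMap A S a)).Finite) :
    ∃ s, ∀ i, φ i s ≠ φ₀ s := by
  classical
  have hft := Fintype.ofFinite ι
  have hTi : ∀ i, (Set.range fun a => φ i (algebraMap A S a)).Finite := fun i => by
    have : (fun a => φ i (algebraMap A S a)) = fun a => φ₀ (algebraMap A S a) :=
      funext (hφ i)
    rw [this]; exact hT
  have hx : ∀ i, ∃ x, φ i x ≠ φ₀ x := fun i => by
    by_contra hcon
    push Not at hcon
    exact hne i (RingHom.ext hcon)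
  choose x hx using hx
  let S₁ : Subalgebra A S := Algebra.adjoin A (Set.range x)
  have hS₁ : (Subalgebra.toSubmodule S₁).FG :=
    fg_adjoin_of_finite (Set.finite_range x) fun y _ => Algebra.IsIntegral.isIntegral y
  have hxS : ∀ i, x i ∈ S₁ := fun i => Algebra.subset_adjoin ⟨i, rfl⟩
  -- the finite ring `φ₀ S₁`
  let R₁ : Subring Ω := (φ₀.comp S₁.val.toRingHom).range
  have hR₁ : Finite R₁ := by
    refine (finite_image φ₀ hT _ hS₁).subset ?_
    rintro _ ⟨y, rfl⟩
    exact ⟨y, y.2, rfl⟩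
  obtain ⟨g, hg⟩ := IsCyclic.exists_generator (α := R₁ˣ)
  obtain ⟨⟨s₀, hs₀⟩, hs₀g⟩ : ∃ s : S₁, φ₀.comp S₁.val.toRingHom s = ((g : R₁) : Ω) := (g : R₁).2
  have hs₀g' : φ₀ s₀ = ((g : R₁) : Ω) := hs₀g
  have hg0 : ((g : R₁) : Ω) ≠ 0 := fun h => g.ne_zero (Subtype.ext h)
  have he : ∀ i, ∃ e, e ∈ S₁ ∧ φ₀ e ≠ 0 ∧ (φ i e = 0 ∨ ∀ y ∈ S₁, φ i y = 0 → φ₀ y = 0) := by
    intro i
    by_cases h : ∀ y ∈ S₁, φ i y = 0 → φ₀ y = 0
    · exact ⟨1, S₁.one_mem, by simp, Or.inr h⟩
    · push Not at h
      obtain ⟨y, hy, hy1, hy2⟩ := h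
      exact ⟨y, hy, hy2, Or.inl hy1⟩
  choose e heS he0 he using he
  obtain ⟨n, hn, hen⟩ := pow_eq_one φ₀ hT (∏ i, e i) (by
    rw [map_prod]
    exact Finset.prod_ne_zero_iff.mpr fun i _ => he0 i)
  have hsS : (∏ i, e i) ^ n * s₀ ∈ S₁ :=
    S₁.mul_mem (S₁.pow_mem (S₁.prod_mem fun i _ => heS i) n) hs₀
  have hsg : φ₀ ((∏ i, e i) ^ n * s₀) = ((g : R₁) : Ω) := by
    rw [map_mul, map_pow, hen, one_mul, hs₀g']
  refine ⟨(∏ i, e i) ^ n * s₀, fun i hi => ?_⟩
  rcases he i with h | h
  · apply hg0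
    rw [← hsg, ← hi, map_mul, map_pow, map_prod, Finset.prod_eq_zero (Finset.mem_univ i) h,
      zero_pow hn.ne', zero_mul]
  · have hrev : ∀ y ∈ S₁, φ₀ y = 0 → φ i y = 0 := by
      intro y hy hy0
      by_contra hyi
      obtain ⟨m, hm, hym⟩ := pow_eq_one (φ i) (hTi i) y hyi
      have h1 : φ₀ (y ^ m - 1) = 0 := h _ (S₁.sub_mem (S₁.pow_mem hy m) S₁.one_mem) (by
        rw [map_sub, map_pow, hym, map_one, sub_self])
      rw [map_sub, map_pow, hy0, zero_pow hm.ne', map_one, zero_sub, neg_eq_zero] at h1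
      exact one_ne_zero h1
    apply hx i
    by_cases hx0 : φ₀ (x i) = 0
    · rw [hx0, hrev _ (hxS i) hx0]
    · obtain ⟨m, hm, hxm⟩ := pow_eq_one φ₀ hT (x i) hx0
      have hmem : φ₀ (x i) ∈ R₁ := ⟨⟨x i, hxS i⟩, rfl⟩
      let y : R₁ := ⟨φ₀ (x i), hmem⟩
      have hy : y ^ m = 1 := Subtype.ext hxm
      have hyu : IsUnit y := IsUnit.of_pow_eq_one hy hm.ne'
      have hz := hg hyu.unit
      rw [← mem_powers_iff_mem_zpowers] at hz
      obtain ⟨k, hk⟩ := hz
      have hk' : φ₀ (x i) = φ₀ (((∏ i, e i) ^ n * s₀) ^ k) := by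
        rw [map_pow, hsg]
        have h2 : ((g ^ k : R₁ˣ) : R₁) = y := by
          have h3 : g ^ k = hyu.unit := hk
          rw [h3]
          exact hyu.unit_spec
        have h4 := congrArg (Subtype.val : R₁ → Ω) h2
        rw [← show ((y : R₁) : Ω) = φ₀ (x i) from rfl, ← h4]
        push_cast
        rfl
      have h5 := hrev (x i - ((∏ i, e i) ^ n * s₀) ^ k)
        (S₁.sub_mem (hxS i) (S₁.pow_mem hsS k)) (by rw [map_sub, hk', sub_self])
      rw [map_sub, sub_eq_zero] at h5
      rw [h5, hk', map_pow, map_pow, hi]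

/-- Finitely many ring maps to a domain, different from `φ₀`, are simultaneously different from
`φ₀` at some element. -/
theorem exists_forall_ne [Algebra.IsIntegral A S]
    (hφ : ∀ i a, φ i (algebraMap A S a) = φ₀ (algebraMap A S a))
    (hne : ∀ i, φ i ≠ φ₀) : ∃ s, ∀ i, φ i s ≠ φ₀ s := by
  by_cases hT : (Set.range fun a => φ₀ (algebraMap A S a)).Finite
  · exact sep_finite φ₀ φ hφ hne hT
  · exact sep_infinite φ₀ φ hφ hne hT

end Sep

section Inertia

variable {A B G : Type*} [CommRing A] [CommRing B] [Algebra A B] [Group G] [Finite G]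
  [MulSemiringAction G B]

/-- An element of `B` fixed by the inertia group at `q` and moved modulo `q` by all other
elements of the group. -/
theorem exists_inertia_elt [SMulCommClass G A B] [Algebra.IsIntegral A B] (q : Ideal B)
    [q.IsPrime] (I : Subgroup G) (hI : ∀ σ, σ ∈ I ↔ ∀ b : B, σ • b - b ∈ q) :
    ∃ θ : B, (∀ σ ∈ I, σ • θ = θ) ∧ ∀ σ ∉ I, σ • θ - θ ∉ q := by
  classical
  have := Fintype.ofFinite I
  let S : Subalgebra A B := FixedPoints.subalgebra A B I
  have hint : Algebra.IsIntegral A S :=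
    Algebra.IsIntegral.of_injective S.val Subtype.val_injective
  let φ₀ : S →+* B ⧸ q := (Ideal.Quotient.mk q).comp S.val.toRingHom
  let φ : {σ : G // σ ∉ I} → S →+* B ⧸ q := fun σ =>
    (Ideal.Quotient.mk q).comp ((MulSemiringAction.toRingHom G B σ.1).comp S.val.toRingHom)
  obtain ⟨s, hs⟩ := exists_forall_ne (A := A) φ₀ φ (fun σ a => by
      change Ideal.Quotient.mk q (σ.1 • algebraMap A B a) = Ideal.Quotient.mk q (algebraMap A B a)
      rw [smul_algebraMap]) (by
    intro σ hσ
    apply σ.2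
    rw [hI]
    intro b
    -- the polynomial `∏ (X - τ b)`
    let P := MulSemiringAction.charpoly I b
    have hcoef : ∀ n, P.coeff n ∈ S := fun n τ => MulSemiringAction.smul_coeff_charpoly b n τ
    let f : B →+* B ⧸ q := (Ideal.Quotient.mk q).comp (MulSemiringAction.toRingHom G B σ.1)
    have h1 : P.map f = P.map (Ideal.Quotient.mk q) := by
      ext n
      rw [coeff_map, coeff_map]
      exact RingHom.congr_fun hσ ⟨P.coeff n, hcoef n⟩
    have h2 : (P.map f).eval (f b) = 0 := by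
      rw [eval_map_apply, show P.eval b = 0 from MulSemiringAction.eval_charpoly I b, map_zero]
    have h3 : P.map (Ideal.Quotient.mk q) = (X - C (Ideal.Quotient.mk q b)) ^ Fintype.card I := by
      change (∏ τ : I, (X - C (τ • b))).map (Ideal.Quotient.mk q) = _
      rw [Polynomial.map_prod, ← Finset.card_univ, ← Finset.prod_const]
      refine Finset.prod_congr rfl fun τ _ => ?_
      rw [Polynomial.map_sub, map_X, map_C]
      congr 2
      exact Ideal.Quotient.eq.mpr ((hI τ.1).mp τ.2 b)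
    rw [h1, h3, eval_pow, eval_sub, eval_X, eval_C] at h2
    have h4 : f b - Ideal.Quotient.mk q b = 0 := by
      by_contra h
      exact pow_ne_zero _ h h2
    exact Ideal.Quotient.eq.mp (sub_eq_zero.mp h4))
  refine ⟨s, fun σ hσ => s.2 ⟨σ, hσ⟩, fun σ hσ h => hs ⟨σ, hσ⟩ ?_⟩
  exact (Ideal.Quotient.eq).mpr h

end Inertia

end K155.InertSep
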