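import Groth.Agent.Pi1C.LefEss
import Groth.Agent.Pi1C.LefTower
import Groth.Agent.Pi1C.LefReg
import Groth.Agent.Pi1C.LefProj
import Groth.Agent.Pi1C.LefGr

/-!
# Lefschetz theorem for finite étale covers: extension to a neighbourhood

The proof of the reference, stopped before purity is used.
-/

set_option autoImplicit false
universe u
open AlgebraicGeometry CategoryTheory CategoryTheory.Limits
open Groth.Agent.VarietyB.ProjGlue

namespace K155.LefNbhd

open Groth.Agent Groth.Agent.Pi1C LefSetup UnionPush PurityQuot LefTors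

theorem exists_nbhd (k : Type u) [Field k] (X : Scheme.{u})
    (f : X ⟶ Spec (CommRingCat.of k)) [IsProper f] (L : X.Modules) (hL : CohB1.IsAmple L)
    (s : Coh.structureModule X ⟶ L)
    (hd : ∀ x : X, x ∉ (PicF2.zeroScheme L s).support →
      (2 : WithBot ℕ∞) < (LocCoh.depth (X.presheaf.stalk x) (X.presheaf.stalk x) : WithBot ℕ∞) +
        topologicalKrullDim (closure ({x} : Set X))) :
    ∀ W : FEt.Cat (PicF2.zeroScheme L s).subscheme, ∃ (N : X.Opens) (t : (PicF2.zeroScheme L s).subscheme ⟶ (N : Scheme.{u}))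
      (V : FEt.Cat (N : Scheme.{u})), t ≫ N.ι = (PicF2.zeroScheme L s).subschemeι ∧
      ((PicF2.zeroScheme L s).support : Set X) ⊆ N ∧
      Nonempty ((FEt.restrict t).obj V ≅ W) := by
  have H : LefRegular.{u} := LefReg.lefRegular LefTower.exists_tower
    (fun T h => LefTower.extends_of_tower _ T h) LefGr.exists_gradedExt
    (fun H E => LefProj.extends_of_gradedExt H E)
  have hX : IsLocallyNoetherian X := LocallyOfFiniteType.isLocallyNoetherian f
  have hXc : CompactSpace X := QuasiCompact.compactSpace_of_compactSpace f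
  have hXn : IsNoetherian X := {}
  obtain ⟨r, D, hU, hb, hs, h0, hmem⟩ := LefEmb.exists_coordData f hL s
  set zs := PicF2.zeroScheme L s with hzs
  have hNE : NbhdExt D 0 := nbhdExt H f D ⟨hU, hb, hs⟩ (fun x hx => hd x ((h0 x).mp hx))
  let J := hyper D hU 0
  have hJ : J ≤ zs := by
    refine Scheme.IdealSheafData.le_of_iSup_eq_top (fun i => ⟨D.U i, hU i⟩) D.iSup_U fun i => ?_
    rw [hyper_ideal, Ideal.span_singleton_le_iff_mem]
    exact hmem i
  let q := Scheme.IdealSheafData.inclusion hJ
  have hq : q ≫ J.subschemeι = zs.subschemeι := Scheme.IdealSheafData.inclusion_subschemeι _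
  have hsupp : ∀ y : X, y ∈ J.support → y ∈ zs.support := by
    intro y hy
    by_contra hy'
    have h1 : y ∈ D.U 0 := (h0 y).mpr hy'
    rw [Scheme.IdealSheafData.mem_support_iff_of_mem (U := ⟨D.U 0, hU 0⟩) h1] at hy
    rw [hyper_ideal, D.f_self, Scheme.mem_zeroLocus_iff] at hy
    refine hy 1 (Ideal.mem_span_singleton_self _) ?_
    rw [Scheme.basicOpen_of_isUnit _ isUnit_one]
    exact h1
  have hqc : IsClosedImmersion q := by
    have : IsClosedImmersion (q ≫ J.subschemeι) := by rw [hq]; infer_instance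
    exact IsClosedImmersion.of_comp q J.subschemeι
  have hqs : Surjective q := by
    refine ⟨fun y => ?_⟩
    have h1 : J.subschemeι y ∈ Set.range zs.subschemeι := by
      rw [Scheme.IdealSheafData.range_subschemeι]
      exact hsupp _ (by
        have : J.subschemeι y ∈ Set.range J.subschemeι := ⟨y, rfl⟩
        rwa [Scheme.IdealSheafData.range_subschemeι] at this)
    obtain ⟨y', hy'⟩ := h1
    refine ⟨y', J.subschemeι.isClosedEmbedding.injective ?_⟩
    rw [← hy', ← hq]
    rfl
  have hqe : (FEt.restrict q).IsEquivalence := S0238.result q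
  intro W
  obtain ⟨N, g, V, hg, ⟨e⟩⟩ := hNE J.subschemeι (isSection_hyper D hU 0)
    ((FEt.restrict q).objPreimage W)
  have hJN : ∀ y : X, y ∈ zs.support → y ∈ N := by
    intro y hy
    have h1 : y ∈ Set.range zs.subschemeι := by
      rw [Scheme.IdealSheafData.range_subschemeι]; exact hy
    obtain ⟨z, rfl⟩ := h1
    rw [← hq, ← hg]
    exact Subtype.mem _
  refine ⟨N, q ≫ g, V, ?_, hJN, ⟨?_⟩⟩
  · rw [Category.assoc, hg, hq]
  · exact (restrictComp q g).app V ≪≫ (FEt.restrict q).mapIso e ≪≫
      (FEt.restrict q).objObjPreimageIso W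

end K155.LefNbhd
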