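import Groth.Agent.Pi1C.NbhdExt

/-!
# `NbhdExt` in terms of open subschemes of `Spec A`

`Extends A f l V0` provides a neighbourhood inside the punctured spectrum; here it is moved to an open
subscheme of `Spec A`.
-/

set_option autoImplicit false
universe u

open AlgebraicGeometry CategoryTheory CategoryTheory.Limits

namespace K155.NbhdConv

open Groth.Agent.Pi1C.NbhdExt Groth.Agent.Pi1C.PurityQuot

/-- Move a neighbourhood inside the punctured spectrum to an open of `Spec A`. -/
theorem exists_of_extends {A : Type u} [CommRing A] [IsLocalRing A] {f : A} {U0 : Scheme.{u}}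
    {l : U0 ⟶ (FEt.puncturedSpec A : Scheme.{u})} {V0 : FEt.Cat U0} (h : Extends A f l V0) :
    ∃ (U' : (Spec (CommRingCat.of A)).Opens) (_ : U' ≤ (FEt.puncturedSpec A)) (u' : U0 ⟶ (U' : Scheme.{u}))
        (_ : u' ≫ U'.ι = l ≫ (FEt.puncturedSpec A).ι) (V' : FEt.Cat (U' : Scheme.{u})),
        Nonempty ((FEt.restrict u').obj V' ≅ V0) := by
  obtain ⟨W, hW, V, t, ht, ⟨i⟩⟩ := h
  refine ⟨(FEt.puncturedSpec A).ι ''ᵁ W, (FEt.puncturedSpec A).ι_image_le W,
    t ≫ ((FEt.puncturedSpec A).ι.isoImage W).hom, ?_,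
    (FEt.restrict ((FEt.puncturedSpec A).ι.isoImage W).inv).obj V, ⟨?_⟩⟩
  · rw [Category.assoc, Scheme.Hom.isoImage_hom_ι, ← Category.assoc, ht]
  · have h1 : (t ≫ ((FEt.puncturedSpec A).ι.isoImage W).hom) ≫
        ((FEt.puncturedSpec A).ι.isoImage W).inv = t := by
      rw [Category.assoc, Iso.hom_inv_id, Category.comp_id]
    exact ((restrictComp _ _).symm ≪≫ restrictCongr h1).app V ≪≫ i

end K155.NbhdConv
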