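import Groth.Agent.Pi1.K155.GraphExt
import Groth.Prelude.Def_FEt

/-!
# Full faithfulness of restriction to `U₀` near `U₀`

`U₀ ⟶ S` a closed immersion (into an open `U`); if decompositions of `T ×_S U₀` extend to disjoint opens
of `T` for all finite étale `T` over opens `U' ⊇ U₀`, then restriction to `U₀` is fully faithful on
germs of finite étale covers near `U₀`.
-/

set_option autoImplicit false
universe u

open CategoryTheory CategoryTheory.Limits AlgebraicGeometry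

namespace K155.NbhdFF

open GraphExt Groth.Agent.Pi1A.ClopenCrit

section PullbackComp

variable {X Y Z : Scheme.{u}} (f : X ⟶ Y) (g : Y ⟶ Z) (fg : X ⟶ Z) (h : fg = f ≫ g)
  (V : FEt.Cat Z)

theorem comp_hom_fst :
    ((MorphismProperty.Over.pullbackComp (P := FEt.prop.{u}) (Q := ⊤) f g fg h).hom.app V).left ≫
      pullback.fst (pullback.snd V.hom g) f ≫ pullback.fst V.hom g = pullback.fst V.hom fg := by
  subst h
  exact MorphismProperty.Over.pullbackComp_left_fst_fst f g V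

theorem comp_inv_fst :
    ((MorphismProperty.Over.pullbackComp (P := FEt.prop.{u}) (Q := ⊤) f g fg h).inv.app V).left ≫
      pullback.fst V.hom fg = pullback.fst (pullback.snd V.hom g) f ≫ pullback.fst V.hom g := by
  have h1 : ((MorphismProperty.Over.pullbackComp (P := FEt.prop.{u}) (Q := ⊤) f g fg h).inv.app V).left
      ≫ ((MorphismProperty.Over.pullbackComp (P := FEt.prop.{u}) (Q := ⊤) f g fg h).hom.app V).left =
      𝟙 _ := by
    have := (MorphismProperty.Over.pullbackComp (P := FEt.prop.{u}) (Q := ⊤) f g fg h).inv_hom_id_app V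
    exact congrArg (fun t => t.left) this
  rw [← comp_hom_fst f g fg h V, reassoc_of% h1]
  rfl

end PullbackComp

theorem final_eq {Y Z S' S'' X : Scheme.{u}} (y : Y ⟶ S') (z : Z ⟶ S') (j : S'' ⟶ S')
    (u'' : X ⟶ S'') (u' : X ⟶ S') (hu : u'' ≫ j = u') (φ : pullback y u' ⟶ pullback z u')
    (hφ : φ ≫ pullback.snd z u' = pullback.snd y u') (ψ : pullback y j ⟶ pullback z j)
    (hψ1 : bc u' y j u'' hu ≫ ψ ≫ pullback.fst z j = φ ≫ pullback.fst z u')
    (hψ2 : ψ ≫ pullback.snd z j = pullback.snd y j)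
    (ci : pullback (pullback.snd y j) u'' ⟶ pullback y u')
    (f1 : ci ≫ pullback.fst y u' = pullback.fst (pullback.snd y j) u'' ≫ pullback.fst y j)
    (f2 : ci ≫ pullback.snd y u' = pullback.snd (pullback.snd y j) u'')
    (ch : pullback z u' ⟶ pullback (pullback.snd z j) u'')
    (f3 : ch ≫ pullback.fst (pullback.snd z j) u'' ≫ pullback.fst z j = pullback.fst z u')
    (f4 : ch ≫ pullback.snd (pullback.snd z j) u'' = pullback.snd z u')
    (Ψ : pullback (pullback.snd y j) u'' ⟶ pullback (pullback.snd z j) u'')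
    (e0 : Ψ ≫ pullback.fst (pullback.snd z j) u'' = pullback.fst (pullback.snd y j) u'' ≫ ψ)
    (e1 : Ψ ≫ pullback.snd (pullback.snd z j) u'' = pullback.snd (pullback.snd y j) u'') :
    Ψ = ci ≫ φ ≫ ch := by
  have f5 : ci ≫ bc u' y j u'' hu = pullback.fst (pullback.snd y j) u'' := by
    apply pullback.hom_ext
    · rw [Category.assoc, bc, pullback.lift_fst, f1]
    · rw [Category.assoc, bc, pullback.lift_snd, reassoc_of% f2, pullback.condition]
  apply pullback.hom_ext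
  · apply pullback.hom_ext
    · rw [e0, Category.assoc, Category.assoc, Category.assoc, Category.assoc, f3, ← hψ1,
        reassoc_of% f5]
    · rw [e0, Category.assoc, hψ2, pullback.condition, Category.assoc, Category.assoc,
        Category.assoc, pullback.condition, reassoc_of% f4, reassoc_of% hφ, reassoc_of% f2]
  · rw [e1, Category.assoc, Category.assoc, f4, hφ, f2]

/-- Decompositions of `T_X` extend to disjoint opens of `T`. -/
def Decomp {S : Scheme.{u}} (U : S.Opens) {X : Scheme.{u}} (i : X ⟶ (U : Scheme.{u})) : Prop :=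
  ∀ (U' : S.Opens) (_ : U' ≤ U) (_ : Set.range (i ≫ U.ι) ⊆ U') (T : Scheme.{u})
    (t : T ⟶ (U' : Scheme.{u})) [IsFinite t] [Etale t] (Z₀ Z₁ : Set T), IsClosed Z₀ → IsClosed Z₁ →
    (∀ x : T, U'.ι (t x) ∈ Set.range (i ≫ U.ι) → (x ∈ Z₀ ∨ x ∈ Z₁)) →
    (∀ x : T, U'.ι (t x) ∈ Set.range (i ≫ U.ι) → x ∈ Z₀ → x ∈ Z₁ → False) →
    ∃ O₀ O₁ : Set T, IsOpen O₀ ∧ IsOpen O₁ ∧ Disjoint O₀ O₁ ∧
      ∀ x : T, U'.ι (t x) ∈ Set.range (i ≫ U.ι) → ((x ∈ Z₀ → x ∈ O₀) ∧ (x ∈ Z₁ → x ∈ O₁))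

section Main

variable {S : Scheme.{u}} (U : S.Opens) {X : Scheme.{u}} (i : X ⟶ (U : Scheme.{u}))

/-- The open complement of a closed subset of an open. -/
def cut (U' : S.Opens) (K : Set U') (hK : IsClosed K) : S.Opens :=
  U'.ι ''ᵁ (⟨Kᶜ, hK.isOpen_compl⟩ : (U' : Scheme.{u}).Opens)

theorem cut_le (U' : S.Opens) (K : Set U') (hK : IsClosed K) : cut U' K hK ≤ U' := by
  rintro _ ⟨x, -, rfl⟩
  exact x.2

theorem notMem_of_cut (U' : S.Opens) (K : Set U') (hK : IsClosed K) (x : cut U' K hK) :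
    S.homOfLE (cut_le U' K hK) x ∉ K := by
  have h0 : U'.ι (S.homOfLE (cut_le U' K hK) x) = (cut U' K hK).ι x := by
    rw [← Scheme.Hom.comp_apply, Scheme.homOfLE_ι]
  obtain ⟨y, hy, hyx⟩ := x.2
  have h1 : y = S.homOfLE (cut_le U' K hK) x := U'.ι.injective (hyx.trans h0.symm)
  rw [← h1]
  exact hy

theorem range_subset_cut {X : Scheme.{u}} (U' : S.Opens) (K : Set U') (hK : IsClosed K)
    (u' : X ⟶ (U' : Scheme.{u})) (h : ∀ x, u' x ∉ K) :
    Set.range (u' ≫ U'.ι) ⊆ Set.range (cut U' K hK).ι := by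
  rw [Scheme.Opens.range_ι]
  rintro _ ⟨x, rfl⟩
  exact ⟨u' x, h x, rfl⟩

/-- lifting to the complement -/
noncomputable def cutLift {X : Scheme.{u}} (U' : S.Opens) (K : Set U') (hK : IsClosed K)
    (u' : X ⟶ (U' : Scheme.{u})) (h : ∀ x, u' x ∉ K) : X ⟶ (cut U' K hK : Scheme.{u}) :=
  IsOpenImmersion.lift (cut U' K hK).ι (u' ≫ U'.ι) (range_subset_cut U' K hK u' h)

theorem cutLift_homOfLE {X : Scheme.{u}} (U' : S.Opens) (K : Set U') (hK : IsClosed K)
    (u' : X ⟶ (U' : Scheme.{u})) (h : ∀ x, u' x ∉ K) :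
    cutLift U' K hK u' h ≫ S.homOfLE (cut_le U' K hK) = u' := by
  rw [← cancel_mono U'.ι, Category.assoc, Scheme.homOfLE_ι, cutLift, IsOpenImmersion.lift_fac]

theorem full [IsClosedImmersion i] (hH : Decomp U i) (U' : S.Opens) (hU' : U' ≤ U)
    (u' : X ⟶ (U' : Scheme.{u})) (hu' : u' ≫ U'.ι = i ≫ U.ι) (V' W' : FEt.Cat (U' : Scheme.{u}))
    (φ₀ : (FEt.restrict u').obj V' ⟶ (FEt.restrict u').obj W') :
    ∃ (U'' : S.Opens) (h : U'' ≤ U') (u'' : X ⟶ (U'' : Scheme.{u}))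
      (hu : u'' ≫ S.homOfLE h = u')
      (φ : (FEt.restrict (S.homOfLE h)).obj V' ⟶ (FEt.restrict (S.homOfLE h)).obj W'),
      (FEt.restrict u'').map φ =
        (MorphismProperty.Over.pullbackComp u'' (S.homOfLE h) u' hu.symm).inv.app V' ≫ φ₀ ≫
          (MorphismProperty.Over.pullbackComp u'' (S.homOfLE h) u' hu.symm).hom.app W' := by
  have hu'c : IsClosedImmersion u' := by
    have e1 : u' ≫ S.homOfLE hU' = i := by
      rw [← cancel_mono U.ι, Category.assoc, Scheme.homOfLE_ι, hu']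
    have : IsClosedImmersion (u' ≫ S.homOfLE hU') := by rw [e1]; infer_instance
    exact IsClosedImmersion.of_comp u' (S.homOfLE hU')
  let y := V'.hom
  let z := W'.hom
  let t := pullback.fst y z ≫ y
  let φ : pullback y u' ⟶ pullback z u' := φ₀.left
  have hφ : φ ≫ pullback.snd z u' = pullback.snd y u' := w φ₀
  let cX := pullback.fst t u'
  have hcX : IsClosedImmersion cX := inferInstance
  let G := Set.range (graph u' y z φ hφ)
  have hG : IsClopen G := graph_isClopen u' y z φ hφ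
  have hrange : ∀ x, U'.ι (t x) ∈ Set.range (i ≫ U.ι) → ∃ w, cX w = x := by
    rintro x ⟨p, hp⟩
    rw [← hu', Scheme.Hom.comp_apply] at hp
    have h2 : t x = u' p := U'.ι.injective hp.symm
    obtain ⟨w, hw, -⟩ := Scheme.exists_preimage_of_isPullback (IsPullback.of_hasPullback t u') x p h2
    exact ⟨w, hw⟩
  obtain ⟨O₀, O₁, hO₀, hO₁, hdis, hO⟩ := hH U' hU' (by
      rw [← hu']
      rintro _ ⟨p, rfl⟩
      rw [Scheme.Hom.comp_apply]
      exact (u' p).2) _ t (cX '' Gᶜ) (cX '' G)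
    (cX.isClosedMap _ hG.compl.isClosed) (cX.isClosedMap _ hG.isClosed) (by
      intro x hx
      obtain ⟨w, rfl⟩ := hrange x hx
      by_cases hw : w ∈ G
      · exact Or.inr ⟨w, hw, rfl⟩
      · exact Or.inl ⟨w, hw, rfl⟩) (by
      rintro x - ⟨w, hw, rfl⟩ ⟨w', hw', h⟩
      rw [cX.isClosedEmbedding.injective h] at hw'
      exact hw hw')
  have hcXr : ∀ w, U'.ι (t (cX w)) ∈ Set.range (i ≫ U.ι) := by
    intro w
    refine ⟨pullback.snd t u' w, ?_⟩
    rw [← hu', Scheme.Hom.comp_apply, ← Scheme.Hom.comp_apply (pullback.snd t u') u',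
      ← pullback.condition, Scheme.Hom.comp_apply]
  -- the first open
  let K₁ : Set U' := t '' (O₀ ∪ O₁)ᶜ
  have hK₁ : IsClosed K₁ := t.isClosedMap _ (hO₀.union hO₁).isClosed_compl
  have hu'K : ∀ x, u' x ∉ K₁ := by
    rintro x ⟨v, hv, hvx⟩
    obtain ⟨w, hw, -⟩ := Scheme.exists_preimage_of_isPullback (IsPullback.of_hasPullback t u') v x hvx
    apply hv
    have hw' : cX w = v := hw
    rw [← hw']
    by_cases h3 : w ∈ G
    · exact Or.inr ((hO _ (hcXr w)).2 ⟨w, h3, rfl⟩)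
    · exact Or.inl ((hO _ (hcXr w)).1 ⟨w, h3, rfl⟩)
  let U₁ := cut U' K₁ hK₁
  let j₁ := S.homOfLE (cut_le U' K₁ hK₁)
  let u₁ := cutLift U' K₁ hK₁ u' hu'K
  have hu₁ : u₁ ≫ j₁ = u' := cutLift_homOfLE _ _ _ _ _
  -- the clopen
  let C : Set ↥(pullback t j₁) := pullback.fst t j₁ ⁻¹' O₁
  have hCc : C = (pullback.fst t j₁ ⁻¹' O₀)ᶜ := by
    ext w
    constructor
    · intro h1 h0
      exact Set.disjoint_left.1 hdis h0 h1
    · intro h0
      by_contra h1
      refine notMem_of_cut U' K₁ hK₁ (pullback.snd t j₁ w) ⟨pullback.fst t j₁ w, ?_, ?_⟩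
      · rintro (h | h)
        · exact h0 h
        · exact h1 h
      · rw [← Scheme.Hom.comp_apply, pullback.condition, Scheme.Hom.comp_apply]
  have hC : IsClopen C := by
    refine ⟨?_, hO₁.preimage (pullback.fst t j₁).continuous⟩
    rw [hCc]
    exact (hO₀.preimage (pullback.fst t j₁).continuous).isClosed_compl
  obtain ⟨K₂, hK₂, hu₁K, hK⟩ := exists_of_clopen u' y z j₁ u₁ hu₁ φ hφ C hC (by
    intro w
    have e1 : pullback.fst t j₁ (bc u' t j₁ u₁ hu₁ w) = cX w := by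
      rw [← Scheme.Hom.comp_apply, bc, pullback.lift_fst]
    change pullback.fst t j₁ (bc u' t j₁ u₁ hu₁ w) ∈ O₁ ↔ w ∈ G
    rw [e1]
    constructor
    · intro h1
      by_contra h2
      exact Set.disjoint_left.1 hdis ((hO _ (hcXr w)).1 ⟨w, h2, rfl⟩) h1
    · intro h1
      exact (hO _ (hcXr w)).2 ⟨w, h1, rfl⟩)
  let U₂ := cut U₁ K₂ hK₂
  let j₂ := S.homOfLE (cut_le U₁ K₂ hK₂)
  let u₂ := cutLift U₁ K₂ hK₂ u₁ hu₁K
  have hu₂ : u₂ ≫ j₂ = u₁ := cutLift_homOfLE _ _ _ _ _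
  have hle : U₂ ≤ U' := (cut_le U₁ K₂ hK₂).trans (cut_le U' K₁ hK₁)
  have hjj : j₂ ≫ j₁ = S.homOfLE hle := Scheme.homOfLE_homOfLE _ _ _
  have hu : u₂ ≫ S.homOfLE hle = u' := by rw [← hjj, ← Category.assoc, hu₂, hu₁]
  obtain ⟨a, ha1, ha2⟩ : ∃ a : pullback y (S.homOfLE hle) ⟶ W'.left,
      a ≫ z = pullback.snd y (S.homOfLE hle) ≫ S.homOfLE hle ∧
      bc u' y (S.homOfLE hle) u₂ hu ≫ a = φ ≫ pullback.fst z u' := by
    have key : ∀ (j : (U₂ : Scheme.{u}) ⟶ U') (hj : j = S.homOfLE hle) (hf : u₂ ≫ j = u'),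
        (∃ a : pullback y j ⟶ W'.left, a ≫ z = pullback.snd y j ≫ j ∧
          bc u' y j u₂ hf ≫ a = φ ≫ pullback.fst z u') →
        ∃ a : pullback y (S.homOfLE hle) ⟶ W'.left,
          a ≫ z = pullback.snd y (S.homOfLE hle) ≫ S.homOfLE hle ∧
          bc u' y (S.homOfLE hle) u₂ hu ≫ a = φ ≫ pullback.fst z u' := by
      rintro j rfl hf h
      exact h
    exact key _ hjj _ (hK U₂ j₂ u₂ hu₂ (notMem_of_cut U₁ K₂ hK₂))
  let ψ : (FEt.restrict (S.homOfLE hle)).obj V' ⟶ (FEt.restrict (S.homOfLE hle)).obj W' :=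
    MorphismProperty.Over.homMk (pullback.lift a (pullback.snd y (S.homOfLE hle)) ha1)
      (pullback.lift_snd _ _ _)
  refine ⟨U₂, hle, u₂, hu, ψ, ?_⟩
  apply MorphismProperty.Over.Hom.ext
  have e0 : ((FEt.restrict u₂).map ψ).left ≫ pullback.fst (pullback.snd z (S.homOfLE hle)) u₂ =
      pullback.fst (pullback.snd y (S.homOfLE hle)) u₂ ≫ ψ.left := pullback.lift_fst _ _ _
  have e1 : ((FEt.restrict u₂).map ψ).left ≫ pullback.snd (pullback.snd z (S.homOfLE hle)) u₂ =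
      pullback.snd (pullback.snd y (S.homOfLE hle)) u₂ := pullback.lift_snd _ _ _
  exact final_eq y z (S.homOfLE hle) u₂ u' hu φ hφ ψ.left (by
      rw [← ha2]
      congr 1
      exact pullback.lift_fst _ _ _) (pullback.lift_snd _ _ _) _
    (comp_inv_fst u₂ (S.homOfLE hle) u' hu.symm V') (w ((MorphismProperty.Over.pullbackComp
      (P := FEt.prop.{u}) (Q := ⊤) u₂ (S.homOfLE hle) u' hu.symm).inv.app V')) _
    (comp_hom_fst u₂ (S.homOfLE hle) u' hu.symm W') (w ((MorphismProperty.Over.pullbackComp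
      (P := FEt.prop.{u}) (Q := ⊤) u₂ (S.homOfLE hle) u' hu.symm).hom.app W')) _ e0 e1

theorem faithful [IsClosedImmersion i] (U' : S.Opens)
    (u' : X ⟶ (U' : Scheme.{u})) (V' W' : FEt.Cat (U' : Scheme.{u}))
    (φ ψ : V' ⟶ W') (hφψ : (FEt.restrict u').map φ = (FEt.restrict u').map ψ) :
    ∃ (U'' : S.Opens) (h : U'' ≤ U') (u'' : X ⟶ (U'' : Scheme.{u})),
      u'' ≫ S.homOfLE h = u' ∧
      (FEt.restrict (S.homOfLE h)).map φ = (FEt.restrict (S.homOfLE h)).map ψ := by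
  have hab : pullback.fst V'.hom u' ≫ φ.left = pullback.fst V'.hom u' ≫ ψ.left := by
    have h := congrArg (fun t => t.left ≫ pullback.fst W'.hom u') hφψ
    have ha : ((FEt.restrict u').map φ).left ≫ pullback.fst W'.hom u' =
      pullback.fst V'.hom u' ≫ φ.left := pullback.lift_fst _ _ _
    have hb : ((FEt.restrict u').map ψ).left ≫ pullback.fst W'.hom u' =
      pullback.fst V'.hom u' ≫ ψ.left := pullback.lift_fst _ _ _
    exact ha.symm.trans (h.trans hb)
  obtain ⟨K, hKc, hK1, hK2⟩ := exists_closed_of_eq u' V'.hom W'.hom φ.left ψ.left (w φ) (w ψ) hab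
  refine ⟨cut U' K hKc, cut_le U' K hKc, cutLift U' K hKc u' hK1, cutLift_homOfLE _ _ _ _ _, ?_⟩
  have h1 := hK2 _ (S.homOfLE (cut_le U' K hKc)) (notMem_of_cut U' K hKc)
  apply MorphismProperty.Over.Hom.ext
  apply pullback.hom_ext
  · refine (pullback.lift_fst _ _ _).trans (h1.trans (pullback.lift_fst _ _ _).symm)
  · exact (pullback.lift_snd _ _ _).trans (pullback.lift_snd _ _ _).symm

end Main

end K155.NbhdFF
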