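import Groth.Agent.Pi1.K155.FlatKill
import Mathlib.RingTheory.Flat.TorsionFree

/-!
# Separating decompositions of `V(f)` in finite algebras

`Sep A f B`: every decomposition of `V(fB) ∖ V(mB)` into closed subsets is induced by disjoint opens of
`Spec B`. `sep_of_H1`: this holds if `A` is `f`-adically complete, `f` regular, `H¹_m(A/f)` finite and
`B` is finite over `A` and flat on the opens `D(b)`, `b ∈ 𝔟`, `√(𝔟 + f) = m`.
-/

set_option autoImplicit false
universe u

open TensorProduct IsLocalRing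

namespace K155.Sep

/-- Decompositions of `V(f)` are induced by disjoint opens. -/
def Sep (A : Type u) [CommRing A] [IsLocalRing A] (f : A) (B : Type u) [CommRing B] [Algebra A B] :
    Prop :=
  ∀ Z₀ Z₁ : Set (PrimeSpectrum B), IsClosed Z₀ → IsClosed Z₁ →
    (∀ p : PrimeSpectrum B, algebraMap A B f ∈ p.asIdeal →
      ¬ (maximalIdeal A).map (algebraMap A B) ≤ p.asIdeal → (p ∈ Z₀ ∨ p ∈ Z₁)) →
    (∀ p : PrimeSpectrum B, algebraMap A B f ∈ p.asIdeal →
      ¬ (maximalIdeal A).map (algebraMap A B) ≤ p.asIdeal → p ∈ Z₀ → p ∈ Z₁ → False) →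
    ∃ O₀ O₁ : Set (PrimeSpectrum B), IsOpen O₀ ∧ IsOpen O₁ ∧ Disjoint O₀ O₁ ∧
      ∀ p : PrimeSpectrum B, algebraMap A B f ∈ p.asIdeal →
        ¬ (maximalIdeal A).map (algebraMap A B) ≤ p.asIdeal →
        ((p ∈ Z₀ → p ∈ O₀) ∧ (p ∈ Z₁ → p ∈ O₁))

variable {A : Type u} [CommRing A] [IsLocalRing A] {f : A} {B : Type u} [CommRing B] [Algebra A B]

theorem Sep.of_quot (J : Ideal B) (𝔟 : Ideal A)
    (hJ : ∀ p : PrimeSpectrum B, ¬ 𝔟.map (algebraMap A B) ≤ p.asIdeal → J ≤ p.asIdeal)
    (h𝔟 : maximalIdeal A ≤ (𝔟 ⊔ Ideal.span {f}).radical) (h : Sep A f (B ⧸ J)) : Sep A f B := by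
  intro Z₀ Z₁ h0 h1 hc hd
  let q : PrimeSpectrum (B ⧸ J) → PrimeSpectrum B := PrimeSpectrum.comap (Ideal.Quotient.mk J)
  have hq : Continuous q := PrimeSpectrum.continuous_comap _
  have hqe : Topology.IsClosedEmbedding q :=
    PrimeSpectrum.isClosedEmbedding_comap_of_surjective _ _ Ideal.Quotient.mk_surjective
  have hf' : ∀ p : PrimeSpectrum (B ⧸ J), algebraMap A (B ⧸ J) f ∈ p.asIdeal →
      algebraMap A B f ∈ (q p).asIdeal := fun p hp => hp
  have hm' : ∀ p : PrimeSpectrum (B ⧸ J),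
      (maximalIdeal A).map (algebraMap A B) ≤ (q p).asIdeal →
      (maximalIdeal A).map (algebraMap A (B ⧸ J)) ≤ p.asIdeal := by
    intro p hp
    rw [Ideal.map_le_iff_le_comap] at hp ⊢
    exact hp
  obtain ⟨O₀, O₁, hO₀, hO₁, hdis, hO⟩ := h (q ⁻¹' Z₀) (q ⁻¹' Z₁) (h0.preimage hq) (h1.preimage hq)
    (fun p hp hmp => hc (q p) (hf' p hp) fun hcon => hmp (hm' p hcon))
    (fun p hp hmp => hd (q p) (hf' p hp) fun hcon => hmp (hm' p hcon))
  obtain ⟨Ω₀, hΩ₀, rfl⟩ := hqe.isInducing.isOpen_iff.1 hO₀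
  obtain ⟨Ω₁, hΩ₁, rfl⟩ := hqe.isInducing.isOpen_iff.1 hO₁
  let W : Set (PrimeSpectrum B) := (PrimeSpectrum.zeroLocus (𝔟.map (algebraMap A B) : Set B))ᶜ
  have hW : IsOpen W := (PrimeSpectrum.isClosed_zeroLocus _).isOpen_compl
  have hrange : ∀ p ∈ W, ∃ p', q p' = p := by
    intro p hp
    have : p ∈ Set.range (PrimeSpectrum.comap (Ideal.Quotient.mk J)) := by
      rw [range_comap_of_surjective _ _ Ideal.Quotient.mk_surjective, Ideal.mk_ker]
      exact hJ p hp
    exact this
  refine ⟨Ω₀ ∩ W, Ω₁ ∩ W, hΩ₀.inter hW, hΩ₁.inter hW, ?_, ?_⟩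
  · rw [Set.disjoint_left]
    rintro p ⟨h3, h4⟩ ⟨h5, -⟩
    obtain ⟨p', rfl⟩ := hrange p h4
    exact Set.disjoint_left.1 hdis h3 h5
  · intro p hfp hmp
    have hpW : p ∈ W := by
      intro hcon
      apply hmp
      rw [Ideal.map_le_iff_le_comap]
      refine h𝔟.trans ?_
      refine (Ideal.IsPrime.radical_le_iff (Ideal.IsPrime.comap _)).2 (sup_le ?_ ?_)
      · rw [← Ideal.map_le_iff_le_comap]
        exact hcon
      · rw [Ideal.span_singleton_le_iff_mem]
        exact hfp
    obtain ⟨p', rfl⟩ := hrange p hpW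
    have h3 := hO p' hfp fun hcon => hmp (by
      rw [Ideal.map_le_iff_le_comap] at hcon ⊢
      exact hcon)
    exact ⟨fun h4 => ⟨h3.1 h4, hpW⟩, fun h4 => ⟨h3.2 h4, hpW⟩⟩

/-- The `f`-power torsion ideal. -/
def tors (f : A) (B : Type u) [CommRing B] [Algebra A B] : Ideal B where
  carrier := {x | ∃ k : ℕ, f ^ k • x = 0}
  add_mem' := by
    rintro x y ⟨k, hk⟩ ⟨l, hl⟩
    refine ⟨k + l, ?_⟩
    have h1 : f ^ (k + l) • x = 0 := by rw [pow_add, mul_comm, mul_smul, hk, smul_zero]
    have h2 : f ^ (k + l) • y = 0 := by rw [pow_add, mul_smul, hl, smul_zero]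
    rw [smul_add, h1, h2, add_zero]
  zero_mem' := ⟨0, smul_zero _⟩
  smul_mem' := by
    rintro c x ⟨k, hk⟩
    exact ⟨k, by rw [smul_eq_mul, ← mul_smul_comm, hk, mul_zero]⟩

/-- `B` is finite over `A` and flat on `D(b)`, `b ∈ 𝔟`. -/
theorem sep_of_H1 [IsNoetherianRing A] (hf : f ∈ maximalIdeal A)
    [IsAdicComplete (Ideal.span {f}) A] (hnz : f ∈ nonZeroDivisors A)
    (h1 : Module.Finite A (LocCoh.H (maximalIdeal A) 1 (A ⧸ Ideal.span {f})))
    [Module.Finite A B] (𝔟 : Ideal A)
    (h𝔟 : maximalIdeal A ≤ (𝔟 ⊔ Ideal.span {f}).radical)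
    (hfl : ∀ b ∈ 𝔟, Module.Flat (Localization.Away b) (Localization.Away b ⊗[A] B)) :
    Sep A f B := by
  have hBN : IsNoetherianRing B := IsNoetherianRing.of_finite A B
  let J : Ideal B := tors f B
  -- `J` dies on `D(b)`
  have hJ1 : ∀ b ∈ 𝔟, ∀ x ∈ J, ∃ l : ℕ, b ^ l • x = 0 := by
    rintro b hb x ⟨k, hk⟩
    have hfl' : Module.Flat (Localization.Away b) (Localization.Away b ⊗[A] B) := hfl b hb
    have hfl2 : Module.Flat A (Localization.Away b) := IsLocalization.flat _ (Submonoid.powers b)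
    have hfl3 : Module.Flat A (Localization.Away b ⊗[A] B) :=
      Module.Flat.trans A (Localization.Away b) _
    have hreg : IsSMulRegular (Localization.Away b ⊗[A] B) (f ^ k) :=
      (Module.Flat.isSMulRegular_of_nonZeroDivisors
        (M := Localization.Away b ⊗[A] B) (pow_mem hnz k))
    have h3 : (1 : Localization.Away b) ⊗ₜ[A] x = 0 := by
      refine hreg ?_
      change f ^ k • ((1 : Localization.Away b) ⊗ₜ[A] x) = f ^ k • 0
      rw [← TensorProduct.tmul_smul, hk, TensorProduct.tmul_zero, smul_zero]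
    have hloc : IsLocalizedModule (Submonoid.powers b) (TensorProduct.mk A (Localization.Away b) B 1) :=
      (isLocalizedModule_iff_isBaseChange (Submonoid.powers b) (Localization.Away b) _).2
        (TensorProduct.isBaseChange A B (Localization.Away b))
    obtain ⟨⟨_, l, rfl⟩, hl⟩ := (IsLocalizedModule.eq_zero_iff (Submonoid.powers b)
      (TensorProduct.mk A (Localization.Away b) B 1)).1 h3
    exact ⟨l, hl⟩
  have hJ : ∀ p : PrimeSpectrum B, ¬ 𝔟.map (algebraMap A B) ≤ p.asIdeal → J ≤ p.asIdeal := by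
    intro p hp x hx
    rw [Ideal.map_le_iff_le_comap] at hp
    obtain ⟨b, hb, hbp⟩ := SetLike.not_le_iff_exists.1 hp
    obtain ⟨l, hl⟩ := hJ1 b hb x hx
    rw [Algebra.smul_def, map_pow] at hl
    have h3 : algebraMap A B b ^ l * x ∈ p.asIdeal := by rw [hl]; exact p.asIdeal.zero_mem
    rcases p.isPrime.mem_or_mem h3 with h | h
    · exact absurd (p.isPrime.mem_of_pow_mem _ h) hbp
    · exact h
  refine Sep.of_quot J 𝔟 hJ h𝔟 ?_
  -- regularity
  have hreg : ∀ b : B ⧸ J, f • b = 0 → b = 0 := by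
    intro b hb
    obtain ⟨b, rfl⟩ := Ideal.Quotient.mk_surjective b
    have h3 : Ideal.Quotient.mk J (f • b) = 0 := hb
    rw [Ideal.Quotient.eq_zero_iff_mem] at h3 ⊢
    obtain ⟨k, hk⟩ := h3
    exact ⟨k + 1, by rw [pow_succ, mul_smul]; exact hk⟩
  obtain ⟨c, n, -, hc, hk⟩ := QuotAnn.exists_annihilator (A := A) f hf hnz 2
    (fun i hi1 hi2 => by
      obtain rfl : i = 1 := by omega
      exact h1)
  have hflJ : ∀ b ∈ 𝔟, Module.Flat (Localization.Away (algebraMap A A b))
      (Localization.Away (algebraMap A A b) ⊗[A] (B ⧸ J)) := by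
    intro b hb
    change Module.Flat (Localization.Away b) (Localization.Away b ⊗[A] (B ⧸ J))
    have hsurj : Function.Surjective (((Ideal.Quotient.mkₐ A J).toLinearMap).lTensor
        (Localization.Away b)) :=
      LinearMap.lTensor_surjective _ Ideal.Quotient.mk_surjective
    have hinj : Function.Injective (((Ideal.Quotient.mkₐ A J).toLinearMap).lTensor
        (Localization.Away b)) := by
      rw [injective_iff_map_eq_zero]
      have hloc : ∀ (M : Type u) [AddCommGroup M] [Module A M],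
          IsLocalizedModule (Submonoid.powers b) (TensorProduct.mk A (Localization.Away b) M 1) :=
        fun M _ _ => (isLocalizedModule_iff_isBaseChange (Submonoid.powers b) (Localization.Away b) _).2
          (TensorProduct.isBaseChange A M (Localization.Away b))
      intro z hz
      have hB := hloc B
      have hBJ := hloc (B ⧸ J)
      obtain ⟨⟨x, s⟩, hx⟩ := IsLocalizedModule.surj (Submonoid.powers b)
        (TensorProduct.mk A (Localization.Away b) B 1) z
      have h4 : TensorProduct.mk A (Localization.Away b) (B ⧸ J) 1 (Ideal.Quotient.mk J x) = 0 := by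
        have h5 := congrArg (((Ideal.Quotient.mkₐ A J).toLinearMap).lTensor
          (Localization.Away b)) hx
        change ((Ideal.Quotient.mkₐ A J).toLinearMap).lTensor (Localization.Away b) ((s : A) • z) =
          _ at h5
        rw [map_smul, hz, smul_zero] at h5
        exact h5.symm
      obtain ⟨⟨_, l, rfl⟩, hl⟩ := (IsLocalizedModule.eq_zero_iff (Submonoid.powers b)
        (TensorProduct.mk A (Localization.Away b) (B ⧸ J) 1)).1 h4
      have h6 : Ideal.Quotient.mk J (b ^ l • x) = 0 := hl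
      rw [Ideal.Quotient.eq_zero_iff_mem] at h6
      obtain ⟨l', hl'⟩ := hJ1 b hb _ h6
      have h7 : TensorProduct.mk A (Localization.Away b) B 1 x = 0 :=
        (IsLocalizedModule.eq_zero_iff (Submonoid.powers b) _).2
          ⟨⟨b ^ (l' + l), ⟨_, rfl⟩⟩, by
            change b ^ (l' + l) • x = 0
            rw [pow_add, mul_smul]
            exact hl'⟩
      rw [h7] at hx
      exact IsLocalizedModule.smul_injective (TensorProduct.mk A (Localization.Away b) B 1) s
        (hx.trans (smul_zero s).symm)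
    let e : Localization.Away b ⊗[A] B ≃ₗ[Localization.Away b] Localization.Away b ⊗[A] (B ⧸ J) :=
      LinearEquiv.ofBijective (AlgebraTensorModule.lTensor (Localization.Away b)
        (Localization.Away b) (Ideal.Quotient.mkₐ A J).toLinearMap) ⟨hinj, hsurj⟩
    have := hfl b hb
    exact Module.Flat.of_linearEquiv e.symm
  have hfinJ : Module.Finite A (B ⧸ J) := inferInstance
  intro Z₀ Z₁ hZ₀ hZ₁ hcov hdis
  exact FlatKill.exists_opens_finite f hf (R' := A) n c (by
      rw [hc]) (fun a ha => hk 1 (by norm_num) a ha)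
    (fun a ha => hk 2 le_rfl a ha) (B ⧸ J) hreg 𝔟 h𝔟 hflJ Z₀ Z₁ hZ₀ hZ₁ hcov hdis

end K155.Sep
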