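import Groth.Agent.Pi1.K155.GoodOpens
import Groth.Agent.FormalA.AnnDom
import Groth.Agent.S0326
import Mathlib.RingTheory.Ideal.AssociatedPrime.Basic

/-!
# Separation over rings with a dualizing complex

`A` Noetherian local with a dualizing complex, `f`-adically complete, `dim A/p ≥ 3` for the minimal
primes `p ∌ f`. If `B` is a finite `A/nilradical A`-algebra, flat on `D(b)` for `b ∈ 𝔟`,
`√(𝔟 + f) = m`, then `Sep A f B`.
-/

set_option autoImplicit false
universe u

open TensorProduct IsLocalRing CategoryTheory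
attribute [local instance] HasDerivedCategory.standard

namespace K155.SepDual

open K155.Sep K155.GoodOpens

variable {A : Type u} [CommRing A] [IsLocalRing A]

theorem dimBetween_maximal (q : Ideal A) :
    Formal2.dimBetween A q (maximalIdeal A) = ringKrullDim (A ⧸ q) := by
  have h : (maximalIdeal A).primeCompl ≤ IsUnit.submonoid A := by
    intro a ha
    by_contra hcon
    exact ha ((mem_maximalIdeal a).2 hcon)
  let e : A ≃ₐ[A] Localization.AtPrime (maximalIdeal A) :=
    IsLocalization.atUnits A (maximalIdeal A).primeCompl h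
  refine (ringKrullDim_eq_of_ringEquiv (Ideal.quotientEquiv q
    (q.map (algebraMap A (Localization.AtPrime (maximalIdeal A)))) e.toRingEquiv ?_)).symm
  congr 1

variable [IsNoetherianRing A] {f : A}

omit [IsLocalRing A] in
theorem minimal_of_associated {B : Type u} [CommRing B] [Algebra (A ⧸ nilradical A) B] [Algebra A B]
    [IsScalarTower A (A ⧸ nilradical A) B] (b : A)
    (hfl : Module.Flat (Localization.Away (algebraMap A (A ⧸ nilradical A) b))
      (Localization.Away (algebraMap A (A ⧸ nilradical A) b) ⊗[A ⧸ nilradical A] B))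
    (q : Ideal A) (hq : q ∈ associatedPrimes A B) (hbq : b ∉ q) : q ∈ minimalPrimes A := by
  have hqp : q.IsPrime := hq.1
  by_contra hmin
  -- an element of `q` outside the minimal primes
  obtain ⟨a, haq, ha⟩ : ∃ a ∈ q, ∀ P ∈ minimalPrimes A, a ∉ P := by
    by_contra hcon
    push Not at hcon
    have hfin : (minimalPrimes A).Finite := minimalPrimes.finite_of_isNoetherianRing A
    have h1 : (q : Set A) ⊆ ⋃ P ∈ minimalPrimes A, (P : Set A) := by
      intro a ha
      obtain ⟨P, hP, haP⟩ := hcon a ha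
      exact Set.mem_biUnion hP haP
    obtain ⟨P, hP, hqP⟩ := (Ideal.subset_union_prime_finite hfin (f := fun P => P) ⊥ ⊥
      (fun P hP _ _ => hP.1.1)).1 h1
    have h2 : P ≤ q := hP.2 ⟨hqp, bot_le⟩ hqP
    exact hmin (le_antisymm hqP h2 ▸ hP)
  -- it is a nonzerodivisor modulo the nilradical
  have hreg : algebraMap A (A ⧸ nilradical A) a ∈ nonZeroDivisors (A ⧸ nilradical A) := by
    rw [mem_nonZeroDivisors_iff_right]
    intro c hc
    obtain ⟨c, rfl⟩ := Ideal.Quotient.mk_surjective c
    have h1 : Ideal.Quotient.mk (nilradical A) (c * a) = 0 := hc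
    rw [Ideal.Quotient.eq_zero_iff_mem] at h1 ⊢
    have h2 : nilradical A = sInf (minimalPrimes A) := (Ideal.sInf_minimalPrimes (I := ⊥)).symm
    rw [h2, Ideal.mem_sInf] at h1 ⊢
    intro P hP
    rcases hP.1.1.mem_or_mem (h1 hP) with h3 | h3
    · exact h3
    · exact absurd h3 (ha P hP)
  obtain ⟨-, x, hx⟩ := isAssociatedPrime_iff.1 hq
  have hax : a • x = 0 := by
    rw [hx, Submodule.mem_colon_singleton] at haq
    exact haq
  let b' := algebraMap A (A ⧸ nilradical A) b
  have hfl2 : Module.Flat (A ⧸ nilradical A) (Localization.Away b') :=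
    IsLocalization.flat _ (Submonoid.powers b')
  have hfl3 : Module.Flat (A ⧸ nilradical A) (Localization.Away b' ⊗[A ⧸ nilradical A] B) :=
    Module.Flat.trans (A ⧸ nilradical A) (Localization.Away b') _
  have hr : IsSMulRegular (Localization.Away b' ⊗[A ⧸ nilradical A] B)
      (algebraMap A (A ⧸ nilradical A) a) :=
    (Module.Flat.isSMulRegular_of_nonZeroDivisors
      (M := Localization.Away b' ⊗[A ⧸ nilradical A] B) hreg)
  have h3 : (1 : Localization.Away b') ⊗ₜ[A ⧸ nilradical A] x = 0 := by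
    refine hr ?_
    change algebraMap A (A ⧸ nilradical A) a • ((1 : Localization.Away b') ⊗ₜ[A ⧸ nilradical A] x) =
      algebraMap A (A ⧸ nilradical A) a • 0
    rw [← TensorProduct.tmul_smul, algebraMap_smul, hax, TensorProduct.tmul_zero, smul_zero]
  have hloc : IsLocalizedModule (Submonoid.powers b')
      (TensorProduct.mk (A ⧸ nilradical A) (Localization.Away b') B 1) :=
    (isLocalizedModule_iff_isBaseChange (Submonoid.powers b') (Localization.Away b') _).2
      (TensorProduct.isBaseChange (A ⧸ nilradical A) B (Localization.Away b'))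
  obtain ⟨⟨_, l, rfl⟩, hl⟩ := (IsLocalizedModule.eq_zero_iff (Submonoid.powers b')
    (TensorProduct.mk (A ⧸ nilradical A) (Localization.Away b') B 1)).1 h3
  have h4 : b ^ l • x = 0 := by
    rw [← algebraMap_smul (A ⧸ nilradical A), map_pow]
    exact hl
  refine hbq (hqp.mem_of_pow_mem l ?_)
  rw [hx, Submodule.mem_colon_singleton]
  exact h4

/-- **Separation over rings with a dualizing complex.** -/
theorem sep_of_dualizing (hf : f ∈ maximalIdeal A) (hd : ∃ ω : Dual.D A, Dual.IsDualizing A ω)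
    [IsAdicComplete (Ideal.span {f}) A]
    (hc : ∀ p : Ideal A, p ∈ minimalPrimes A → f ∉ p → (3 : WithBot ℕ∞) ≤ ringKrullDim (A ⧸ p))
    {B : Type u} [CommRing B] [Algebra (A ⧸ nilradical A) B] [Algebra A B]
    [IsScalarTower A (A ⧸ nilradical A) B] [Module.Finite (A ⧸ nilradical A) B] (𝔟 : Ideal A)
    (h𝔟 : maximalIdeal A ≤ (𝔟 ⊔ Ideal.span {f}).radical)
    (hfl : ∀ b ∈ 𝔟, Module.Flat (Localization.Away (algebraMap A (A ⧸ nilradical A) b))
      (Localization.Away (algebraMap A (A ⧸ nilradical A) b) ⊗[A ⧸ nilradical A] B)) :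
    Sep A f B := by
  have hfinB : Module.Finite A B := Module.Finite.trans (A ⧸ nilradical A) B
  obtain ⟨s, hs⟩ := (IsNoetherian.noetherian (maximalIdeal A) : (maximalIdeal A).FG)
  let g : s → A := fun x => x.1
  have hg0 : Ideal.span (Set.range g) = maximalIdeal A := by
    rw [← hs, Subtype.range_coe_subtype]
    rfl
  have hg : ∀ q : PrimeSpectrum A, ¬ maximalIdeal A ≤ q.asIdeal ↔ ∃ i, g i ∉ q.asIdeal := by
    intro q
    rw [← hg0, Ideal.span_le, Set.range_subset_iff]
    push Not
    rfl
  have hcd : LocCoh.CdLE A (Ideal.span {f}) 1 := by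
    have := Groth.Agent.S0326.result A {f}
    rwa [Finset.coe_singleton, Finset.card_singleton] at this
  have hgood : ∀ p : PrimeSpectrum A, Ideal.span {f} ≤ p.asIdeal → ¬ maximalIdeal A ≤ p.asIdeal →
      Groth.Agent.FormalA.GoodLoc.Good (Ideal.span {f}) (maximalIdeal A) p B := by
    intro p hfp hmp
    refine Groth.Agent.FormalA.GoodAll.good_of_ann 1 hcd B p hfp hmp fun q hq hqp hIq => ?_
    have hqprime : q.IsPrime := hq.1
    have h𝔞q : ¬ maximalIdeal A ≤ q := fun h => hmp (h.trans hqp)
    -- `q` is minimal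
    obtain ⟨b, hb, hbp⟩ : ∃ b ∈ 𝔟, b ∉ p.asIdeal := by
      by_contra hcon
      push Not at hcon
      exact hmp (h𝔟.trans ((Ideal.IsPrime.radical_le_iff p.isPrime).2 (sup_le hcon hfp)))
    have hmin := minimal_of_associated b (hfl b hb) q hq fun h => hbp (hqp h)
    have h3 := hc q hmin fun h => hIq ((Ideal.span_singleton_le_iff_mem _).2 h)
    refine Groth.Agent.FormalA.AnnDom.exists_annihilator A hd (maximalIdeal A) q h𝔞q 1 ?_
    intro q' hq' hqq' hmq'
    obtain rfl : maximalIdeal A = q' :=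
      le_antisymm hmq' (le_maximalIdeal hq'.ne_top)
    rw [dimBetween_maximal]
    refine lt_of_lt_of_le ?_ h3
    norm_num
  intro Z₀ Z₁ h0 h1 hcov hdis
  have hnot : ∀ p : PrimeSpectrum B, ∀ i, algebraMap A B (g i) ∉ p.asIdeal →
      ¬ (maximalIdeal A).map (algebraMap A B) ≤ p.asIdeal := by
    intro p i hi h
    rw [Ideal.map_le_iff_le_comap] at h
    exact hi (h (hg0 ▸ Ideal.subset_span ⟨i, rfl⟩))
  obtain ⟨O₀, O₁, hO₀, hO₁, hd', hO⟩ := exists_opens_good g (maximalIdeal A) hg hgood Z₀ Z₁ h0 h1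
    (fun p hp i hi => hcov p hp (hnot p i hi)) (fun p hp i hi => hdis p hp (hnot p i hi))
  refine ⟨O₀, O₁, hO₀, hO₁, hd', fun p hp hmp => ?_⟩
  obtain ⟨i, hi⟩ := (hg (PrimeSpectrum.comap (algebraMap A B) p)).1 fun h => hmp (by
    rw [Ideal.map_le_iff_le_comap]
    exact h)
  exact hO p hp i hi

end K155.SepDual
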